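import Groth.Agent.Resolve.K84.Iface
import Groth.Agent.AdjLin.K134.JacSheaf
import Groth.Agent.AdjLin.K577.Lat
import Groth.Prelude.Def_Canon
import Groth.Prelude.Def_Curv2
import Groth.Prelude.Def_ClSub2
import Mathlib.RingTheory.Length
import Mathlib.FieldTheory.IsAlgClosed.Basic
import Mathlib.Algebra.Order.Floor.Semiring

/-!
# Fujita freeness in dimension at most four: interface between the nodes (plan of helper633)

`X` smooth projective integral over `k` (algebraically closed, characteristic zero) with structure map `p`, dimension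
`n`, `x` a closed point, `A` ample. Target `FREE`: `ω_X ⊗ A^l` is generated at `x` for `l ≥ n + 1`, `n ≤ 4`.

All boundaries are formal products of ideals: `B = ∑ c_j [I_j]`, `c_j ≥ 0` rational, `A^(a_j) ⊗ I_j` globally
generated; the price is `∑ c_j a_j`, the order along `E_i` is `∑ c_j ord_i (I_j)`, the log discrepancy
`ld i = A i - ord_i B`, `A i = 1 + ord_i (Jac μ)`.
-/

set_option autoImplicit false
universe u

open CategoryTheory CategoryTheory.Limits AlgebraicGeometry TopologicalSpace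
open Groth.Agent.Divis.CartierBasic (stalkIdeal)

noncomputable section

namespace K633.Fuj

variable {k : Type u} [Field k]

/-! ### Orders, models -/

/-- the order of an ideal of a local ring (only used for nonzero ideals of discrete valuation rings) -/
def idOrd {R : Type u} [CommRing R] [IsLocalRing R] (I : Ideal R) : ℕ :=
  sSup {m : ℕ | I ≤ IsLocalRing.maximalIdeal R ^ m}

/-- the order of an ideal sheaf at a point -/
def ord {Y : Scheme.{u}} (I : Y.IdealSheafData) (ξ : Y) : ℕ := idOrd (stalkIdeal I ξ)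

/-- the ideal of the (reduced) closure of a point -/
def ptI {X : Scheme.{u}} (w : X) : X.IdealSheafData :=
  Scheme.IdealSheafData.vanishingIdeal ⟨closure {w}, isClosed_closure⟩

/-- A model: `Y` smooth, projective over `k`, birational over `X`, with a strict normal crossing family of prime
divisors. -/
structure Model {X : Scheme.{u}} (p : X ⟶ Spec (CommRingCat.of k)) where
  Y : Scheme.{u}
  μ : Y ⟶ X
  r : ℕ
  E : Fin r → Y.IdealSheafData
  int : IsIntegral Y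
  proj : RelProj.IsHProjective (μ ≫ p)
  bir : K84.Iface.IsBir μ
  smooth : Smooth (μ ≫ p)
  snc : LogNCD.IsNCD E (μ ≫ p)
  irr : ∀ i, IsIntegral (E i).subscheme
  inj : Function.Injective E

attribute [instance] Model.int Model.irr

namespace Model

variable {X : Scheme.{u}} {p : X ⟶ Spec (CommRingCat.of k)} (M : Model p)

/-- the generic point of `E_i` -/
def gp (i : Fin M.r) : M.Y := (M.E i).subschemeι (genericPoint (M.E i).subscheme)

/-- the centre of `E_i` on `X` (as a point) -/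
def c (i : Fin M.r) : X := M.μ (M.gp i)

/-- the monomial ideal `∏ E_i ^ (e i)` -/
def mon (e : Fin M.r → ℕ) : M.Y.IdealSheafData := ∏ i, M.E i ^ e i

/-- the order along `E_i` of the pullback of an ideal of `X` -/
def o (I : X.IdealSheafData) (i : Fin M.r) : ℕ := ord (I.comap M.μ) (M.gp i)

/-- the pullback of `I` is monomial -/
def IsMon (I : X.IdealSheafData) : Prop := I.comap M.μ = M.mon (M.o I)

/-- the relative canonical ideal `O(-K_{Y/X})` -/
def J : M.Y.IdealSheafData := K134.JacSheaf.jac M.μ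

/-- the log discrepancy of `E_i` over `X` -/
def A (i : Fin M.r) : ℕ := 1 + ord M.J (M.gp i)

/-- the fractional ideal `((∏ E^e)_y : J_y)` of `O_{Y,y}`: it is the stalk of `O_Y(K_{Y/X} - ∑ e_i E_i)` -/
def fr (e : Fin M.r → ℕ) : K577.Lat.Fam M.Y := fun y =>
  { carrier := {f | ∀ a ∈ stalkIdeal M.J y, ∃ b ∈ stalkIdeal (M.mon e) y,
      algebraMap (M.Y.presheaf.stalk y) M.Y.functionField b = f * algebraMap (M.Y.presheaf.stalk y) M.Y.functionField a}
    zero_mem' := fun _ _ => ⟨0, Ideal.zero_mem _, by rw [map_zero, zero_mul]⟩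
    add_mem' := fun {f g} hf hg a ha => by
      obtain ⟨b, hb, h1⟩ := hf a ha
      obtain ⟨c, hc, h2⟩ := hg a ha
      exact ⟨b + c, Ideal.add_mem _ hb hc, by rw [map_add, h1, h2, add_mul]⟩
    smul_mem' := fun s f hf a ha => by
      obtain ⟨b, hb, h1⟩ := hf a ha
      exact ⟨s * b, Ideal.mul_mem_left _ _ hb, by rw [map_mul, h1, Algebra.smul_def, mul_assoc]⟩ }

/-- `N` is a model above `M` -/
structure Over (N M : Model p) where
  ν : N.Y ⟶ M.Y
  w : ν ≫ M.μ = N.μ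

/-- `e_{ji} = ord_{E'_j} (E_i)` -/
def Over.e {N M : Model p} (h : Over N M) (j : Fin N.r) (i : Fin M.r) : ℕ := ord ((M.E i).comap h.ν) (N.gp j)

end Model

/-! ### Boundaries -/

/-- `A^a ⊗ I` is globally generated -/
def GG {X : Scheme.{u}} (L : X.Modules) (a : ℕ) (I : X.IdealSheafData) : Prop :=
  Curv2.IsGloballyGenerated (CohB1.tensorMod (CohB1.tensorPow L a) (ClSub.idealMod I))

/-- `B = ∑ c_j [I_j]` with `A^(a_j) ⊗ I_j` globally generated -/
structure Bd {X : Scheme.{u}} (L : X.Modules) where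
  m : ℕ
  I : Fin m → X.IdealSheafData
  a : Fin m → ℕ
  c : Fin m → ℚ
  ne : ∀ j, I j ≠ ⊥
  gg : ∀ j, GG L (a j) (I j)
  nonneg : ∀ j, 0 ≤ c j

namespace Bd

variable {X : Scheme.{u}} {L : X.Modules} (B : Bd L)

/-- the price -/
def price : ℚ := ∑ j, B.c j * B.a j

variable {p : X ⟶ Spec (CommRingCat.of k)}

/-- the order of `B` along `E_i` -/
def o (M : Model p) (i : Fin M.r) : ℚ := ∑ j, B.c j * (M.o (B.I j) i : ℚ)

/-- all ideals of `B` are monomial on `M` -/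
def IsMon (M : Model p) : Prop := ∀ j, M.IsMon (B.I j)

/-- the log discrepancy of `E_i` -/
def ld (M : Model p) (i : Fin M.r) : ℚ := M.A i - B.o M i

end Bd

/-- the standing hypotheses on `X` (besides: `k` algebraically closed of characteristic zero) -/
structure Ctx {X : Scheme.{u}} (p : X ⟶ Spec (CommRingCat.of k)) (n : ℕ) (L : X.Modules) : Prop where
  int : IsIntegral X
  smooth : SmoothOfRelativeDimension n p
  proj : RelProj.IsHProjective p
  dim : topologicalKrullDim X = n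
  ample : CohB1.IsAmple L

/-- what the descent knows on one model: `B`, `m_x`, `I_w` are monomial, `(X, B)` is log canonical at `x`, all lc
places through `x` on `M` have centre `w`, and there is one. -/
structure Lc {X : Scheme.{u}} {p : X ⟶ Spec (CommRingCat.of k)} {L : X.Modules} (M : Model p) (B : Bd L) (x w : X) :
    Prop where
  closed : IsClosed ({x} : Set X)
  spec : w ⤳ x
  ne : w ≠ x
  monB : B.IsMon M
  monx : M.IsMon (ptI x)
  monw : M.IsMon (ptI w)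
  nonneg : ∀ i, M.c i ⤳ x → 0 ≤ B.ld M i
  centre : ∀ i, M.c i ⤳ x → B.ld M i = 0 → M.c i = w
  ex : ∃ i, M.c i = w ∧ B.ld M i = 0

/-! ### The nodes -/

section Nodes

variable {X : Scheme.{u}} (p : X ⟶ Spec (CommRingCat.of k)) (n : ℕ) (L : X.Modules)

/-- **JAC** (helper134). -/
def NJac : Prop :=
  -- (J1)
  (∀ (M : Model p) (ω : X.Modules) (ω' : M.Y.Modules), Canon.IsTopDiff p n ω → Canon.IsTopDiff (M.μ ≫ p) n ω' →
    Nonempty (CohB1.tensorMod ω' (ClSub.idealMod M.J) ≅ (Scheme.Modules.pullback M.μ).obj ω)) ∧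
  -- (J2)
  (∀ (N M : Model p) (h : N.Over M), N.J = K134.JacSheaf.jac h.ν * M.J.comap h.ν) ∧
  -- (J3): sections of `O(K_{Y/X})` over the preimage of an open `U` are functions on `U`
  (∀ (M : Model p) (U : X.Opens) (f : M.Y.functionField), (∀ y ∈ M.μ ⁻¹ᵁ U, f ∈ M.fr (fun _ => 0) y) →
    ∀ y ∈ M.μ ⁻¹ᵁ U, ∃ a : X.presheaf.stalk (M.μ y),
      f = algebraMap (M.Y.presheaf.stalk y) M.Y.functionField ((M.μ.stalkMap y).hom a)) ∧
  -- (J4): the log inequality for prime divisors over the model `M`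
  (∀ (N M : Model p) (h : N.Over M) (j : Fin N.r), ∑ i, h.e j i ≤ 1 + ord (K134.JacSheaf.jac h.ν) (N.gp j))

/-- **LR** (helper165): a model above `M` on which finitely many ideals of `X` are monomial, with the strict transforms
in the family. -/
def NLR : Prop :=
  ∀ (M : Model p) (m : ℕ) (I : Fin m → X.IdealSheafData), (∀ j, I j ≠ ⊥) →
    ∃ (N : Model p) (h : N.Over M), (∀ j, N.IsMon (I j)) ∧ ∀ i : Fin M.r, ∃ j : Fin N.r, h.ν (N.gp j) = M.gp i

/-- there is a model at all (`X` itself) -/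
def NModel : Prop := Nonempty (Model p)

/-- **KV, local form** (helper369): `H^q(Y_U, ω_Y ⊗ ∏ E^(floor ord B)) = 0` for `U` affine. -/
def NVanL : Prop :=
  ∀ (M : Model p) (B : Bd L), B.IsMon M → ∀ (e : Fin M.r → ℕ), (∀ i, e i = ⌊B.o M i⌋₊) →
    ∀ ω' : M.Y.Modules, Canon.IsTopDiff (M.μ ≫ p) n ω' → ∀ U : X.Opens, IsAffineOpen U → ∀ q : ℕ, 1 ≤ q →
      Subsingleton (Coh.HHon M.Y (CohB1.tensorMod ω' (ClSub.idealMod (M.mon e))) (M.μ ⁻¹ᵁ U) q)

/-- **KV, global form** (helper699, helper369). -/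
def NVanG : Prop :=
  ∀ (M : Model p) (B : Bd L), B.IsMon M → ∀ (e : Fin M.r → ℕ), (∀ i, e i = ⌊B.o M i⌋₊) →
    ∀ ω' : M.Y.Modules, Canon.IsTopDiff (M.μ ≫ p) n ω' → ∀ l : ℕ, B.price < l → ∀ q : ℕ, 1 ≤ q →
      Subsingleton (Coh.HH M.Y (CohB1.tensorMod ω' (CohB1.tensorMod
        ((Scheme.Modules.pullback M.μ).obj (CohB1.tensorPow L l)) (ClSub.idealMod (M.mon e)))) q)

/-- **MV** (helper680): Mayer-Vietoris for the fractional ideal sheaf `fr e` over the preimage of small affine opens. -/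
def NMV : Prop :=
  ∀ (M : Model p) (x : X), ∃ U₀ : X.Opens, x ∈ U₀ ∧ ∀ U : X.Opens, U ≤ U₀ → IsAffineOpen U →
    ∀ (e : Fin M.r → ℕ) (ω' : M.Y.Modules), Canon.IsTopDiff (M.μ ≫ p) n ω' →
      Subsingleton (Coh.HHon M.Y (CohB1.tensorMod ω' (ClSub.idealMod (M.mon e))) (M.μ ⁻¹ᵁ U) 1) →
    ∀ V₁ V₂ : M.Y.Opens, V₁ ⊔ V₂ = M.μ ⁻¹ᵁ U → ∀ f : M.Y.functionField, (∀ y ∈ V₁ ⊓ V₂, f ∈ M.fr e y) →
      ∃ f₁ f₂ : M.Y.functionField, f = f₁ - f₂ ∧ (∀ y ∈ V₁, f₁ ∈ M.fr e y) ∧ ∀ y ∈ V₂, f₂ ∈ M.fr e y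

/-- a module is generated at `x` by its global sections -/
def GenAt (F : X.Modules) (x : X) : Prop := ∃ s : Coh.structureModule X ⟶ F, x ∈ CohB1.genLocus F s

/-- **END** (helper680): all lc places through `x` have centre `x`, `H^1` vanishes, so `ω ⊗ A^l` is generated at `x`. -/
def NEnd : Prop :=
  ∀ (M : Model p) (x : X), IsClosed ({x} : Set X) → ∀ (ω : X.Modules) (ω' : M.Y.Modules), Canon.IsTopDiff p n ω →
    Canon.IsTopDiff (M.μ ≫ p) n ω' → ∀ (e : Fin M.r → ℕ) (l : ℕ), (∀ i, M.c i ⤳ x → e i ≤ M.A i) →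
      (∀ i, M.c i ⤳ x → e i = M.A i → M.c i = x) → (∃ i, M.c i = x ∧ e i = M.A i) →
      Subsingleton (Coh.HH M.Y (CohB1.tensorMod ω' (CohB1.tensorMod
        ((Scheme.Modules.pullback M.μ).obj (CohB1.tensorPow L l)) (ClSub.idealMod (M.mon e)))) 1) →
      GenAt (CohB1.tensorMod ω (CohB1.tensorPow L l)) x

/-- the ideal generated at `y` by sections `h_i` over `U` -/
def genBy {X : Scheme.{u}} {p : X ⟶ Spec (CommRingCat.of k)} (M : Model p) {U : X.Opens} {d : ℕ}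
    (h : Fin d → Γ(X, U)) (y : M.Y) (hy : y ∈ M.μ ⁻¹ᵁ U) : Ideal (M.Y.presheaf.stalk y) :=
  Ideal.span (Set.range fun i => (M.Y.presheaf.germ (M.μ ⁻¹ᵁ U) y hy).hom ((M.μ.app U).hom (h i)))

/-- a section over `U` as a rational function on `Y` -/
def toK {X : Scheme.{u}} {p : X ⟶ Spec (CommRingCat.of k)} (M : Model p) {U : X.Opens} (y : M.Y)
    (hy : y ∈ M.μ ⁻¹ᵁ U) (h : Γ(X, U)) : M.Y.functionField :=
  algebraMap (M.Y.presheaf.stalk y) M.Y.functionField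
    ((M.Y.presheaf.germ (M.μ ⁻¹ᵁ U) y hy).hom ((M.μ.app U).hom h))

/-- **SKODA** (helper577). `e₀ = e₁` except on a set `T` of indices where `e₀ = e₁ + 1` and `ord (m_x) = 0`. -/
def NSko : Prop :=
  ∀ (M : Model p) (x : X), IsClosed ({x} : Set X) → ∃ U₀ : X.Opens, x ∈ U₀ ∧ ∀ U : X.Opens, U ≤ U₀ → x ∈ U →
    IsAffineOpen U → M.IsMon (ptI x) → ∀ (d : ℕ) (e₀ e₁ : Fin M.r → ℕ), (∀ i, e₁ i ≤ e₀ i) → (∀ i, e₀ i ≤ e₁ i + 1) →
    (∀ i, e₁ i < e₀ i → M.o (ptI x) i = 0) →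
    ∀ ω' : M.Y.Modules, Canon.IsTopDiff (M.μ ≫ p) n ω' →
    (∀ j ≤ d, ∀ q : ℕ, 1 ≤ q → Subsingleton (Coh.HHon M.Y (CohB1.tensorMod ω'
      (ClSub.idealMod (M.mon fun i => e₀ i + j * M.o (ptI x) i))) (M.μ ⁻¹ᵁ U) q)) →
    (∀ j ≤ d, ∀ q : ℕ, 1 ≤ q → Subsingleton (Coh.HHon M.Y (CohB1.tensorMod ω'
      (ClSub.idealMod (M.mon fun i => e₁ i + j * M.o (ptI x) i))) (M.μ ⁻¹ᵁ U) q)) →
    ∀ h : Fin d → Γ(X, U), 
    (∀ (y : M.Y) (hy : y ∈ M.μ ⁻¹ᵁ U), (∃ i, e₁ i < e₀ i ∧ y ∈ (M.E i).support) →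
      genBy M h y hy = stalkIdeal ((ptI x).comap M.μ) y) →
    1 ≤ d → ∀ f : M.Y.functionField,
      (∀ y ∈ M.μ ⁻¹ᵁ U, f ∈ M.fr (fun i => e₁ i + d * M.o (ptI x) i) y) →
      ∃ (g : M.Y.functionField) (F : Fin d → M.Y.functionField),
        (∀ y ∈ M.μ ⁻¹ᵁ U, g ∈ M.fr (fun i => e₀ i + d * M.o (ptI x) i) y) ∧
        (∀ i, ∀ y ∈ M.μ ⁻¹ᵁ U, F i ∈ M.fr (fun i => e₁ i + (d - 1) * M.o (ptI x) i) y) ∧
        ∀ (y : M.Y) (hy : y ∈ M.μ ⁻¹ᵁ U), f = g + ∑ i, toK M y hy (h i) * F i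

/-- **SKODA, full form** (helper577): the same with `e₀ = ∞` (all of `Y`; used for `W = X`). -/
def NSkoF : Prop :=
  ∀ (M : Model p) (x : X), IsClosed ({x} : Set X) → ∃ U₀ : X.Opens, x ∈ U₀ ∧ ∀ U : X.Opens, U ≤ U₀ → x ∈ U →
    IsAffineOpen U → M.IsMon (ptI x) → ∀ (d : ℕ) (e : Fin M.r → ℕ),
    ∀ ω' : M.Y.Modules, Canon.IsTopDiff (M.μ ≫ p) n ω' →
    (∀ j ≤ d, ∀ q : ℕ, 1 ≤ q → Subsingleton (Coh.HHon M.Y (CohB1.tensorMod ω'
      (ClSub.idealMod (M.mon fun i => e i + j * M.o (ptI x) i))) (M.μ ⁻¹ᵁ U) q)) →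
    ∀ h : Fin d → Γ(X, U), (∀ (y : M.Y) (hy : y ∈ M.μ ⁻¹ᵁ U), genBy M h y hy = stalkIdeal ((ptI x).comap M.μ) y) →
    1 ≤ d → ∀ f : M.Y.functionField, (∀ y ∈ M.μ ⁻¹ᵁ U, f ∈ M.fr (fun i => e i + d * M.o (ptI x) i) y) →
      ∃ F : Fin d → M.Y.functionField,
        (∀ i, ∀ y ∈ M.μ ⁻¹ᵁ U, F i ∈ M.fr (fun i => e i + (d - 1) * M.o (ptI x) i) y) ∧
        ∀ (y : M.Y) (hy : y ∈ M.μ ⁻¹ᵁ U), f = ∑ i, toK M y hy (h i) * F i

/-- **RED** (helper268): general `h_1, …, h_d ∈ m_x`, `d = dim W`, `W` the closure of `w`. -/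
def NRed : Prop :=
  ∀ (M : Model p) (x w : X), IsClosed ({x} : Set X) → w ⤳ x → w ≠ x → ∀ d : ℕ,
    topologicalKrullDim (closure {w} : Set X) = d → M.IsMon (ptI x) →
    ∃ (U₀ : X.Opens) (hx : x ∈ U₀) (h : Fin d → Γ(X, U₀)),
      (∃ hm : ∀ i, (X.presheaf.germ U₀ x hx).hom (h i) ∈ IsLocalRing.maximalIdeal (X.presheaf.stalk x),
        LinearIndependent (IsLocalRing.ResidueField (X.presheaf.stalk x)) fun i =>
          (IsLocalRing.maximalIdeal (X.presheaf.stalk x)).toCotangent ⟨_, hm i⟩) ∧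
      ∀ (y : M.Y) (hy : y ∈ M.μ ⁻¹ᵁ U₀), (∃ i, w ⤳ M.c i ∧ M.o (ptI x) i = 0 ∧ y ∈ (M.E i).support) →
        genBy M h y hy = stalkIdeal ((ptI x).comap M.μ) y

/-- **LEN** (helper268; pure algebra in `K268.Len` + dimension bridge). -/
def NLen : Prop :=
  ∀ (x w : X), IsClosed ({x} : Set X) → w ⤳ x → ∀ d : ℕ, topologicalKrullDim (closure {w} : Set X) = d → 1 ≤ d →
    ∀ (h : Fin d → X.presheaf.stalk x) (hm : ∀ i, h i ∈ IsLocalRing.maximalIdeal (X.presheaf.stalk x)),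
      (LinearIndependent (IsLocalRing.ResidueField (X.presheaf.stalk x)) fun i =>
        (IsLocalRing.maximalIdeal (X.presheaf.stalk x)).toCotangent ⟨_, hm i⟩) →
    ∀ e : ℕ, 1 ≤ e →
      IsLocalRing.maximalIdeal (X.presheaf.stalk x) ^ e ≤ Ideal.span (Set.range h) ⊔ stalkIdeal (ptI w) x →
    ∀ j : ℕ, Module.length (X.presheaf.stalk x)
        (X.presheaf.stalk x ⧸ (stalkIdeal (ptI w) x ⊔ IsLocalRing.maximalIdeal (X.presheaf.stalk x) ^ j)) ≤
      ((e - 1 + n - d).choose (n - d) * (j + d - 1).choose d : ℕ)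

/-- **COUNT** (helper518). -/
def NCount : Prop :=
  ∀ (x w : X), IsClosed ({x} : Set X) → w ⤳ x → ∀ d : ℕ, topologicalKrullDim (closure {w} : Set X) = d → 1 ≤ d →
    ∀ μ₀ : ℕ, (∀ j : ℕ, Module.length (X.presheaf.stalk x)
        (X.presheaf.stalk x ⧸ (stalkIdeal (ptI w) x ⊔ IsLocalRing.maximalIdeal (X.presheaf.stalk x) ^ j)) ≤
      (μ₀ * (j + d - 1).choose d : ℕ)) →
    ∀ ρ : ℚ, 0 < ρ → (μ₀ : ℚ) < ρ ^ d →
    ∃ j q : ℕ, 1 ≤ j ∧ 1 ≤ q ∧ (q : ℚ) ≤ ρ * j ∧ ∃ I : X.IdealSheafData,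
      Nonempty (CohB1.tensorMod (CohB1.tensorPow L q) (ClSub.idealMod I) ≅ Coh.structureModule X) ∧
      stalkIdeal I w = ⊤ ∧
      stalkIdeal I x ≤ stalkIdeal (ptI w) x ⊔ IsLocalRing.maximalIdeal (X.presheaf.stalk x) ^ j

/-- **GGN** (global generation of `A^a ⊗ I`). -/
def NGG : Prop :=
  (∀ I : X.IdealSheafData, ∃ a₀ : ℕ, ∀ a ≥ a₀, GG L a I) ∧
  (∀ (I : X.IdealSheafData) (q r : ℕ),
    Nonempty (CohB1.tensorMod (CohB1.tensorPow L q) (ClSub.idealMod I) ≅ Coh.structureModule X) → GG L (r * q) (I ^ r)) ∧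
  (∀ (I I' : X.IdealSheafData) (a : ℕ), GG L a I → GG L a I' → GG L a (I ⊔ I'))

/-- **LOC**: snc comparison along `E_i ∩ E_j`. -/
def NLoc : Prop :=
  ∀ (M : Model p) (x w : X), IsClosed ({x} : Set X) → ∀ b : X.IdealSheafData, M.IsMon b → M.IsMon (ptI x) →
    ∀ i j : Fin M.r, w ⤳ M.c i → M.o (ptI x) i = 0 → M.o b i = 0 →
    (∃ y, y ∈ (M.E i).support ∧ y ∈ (M.E j).support ∧ M.μ y = x) → ∀ N : ℕ,
    stalkIdeal b x ≤ stalkIdeal (ptI w) x ⊔ IsLocalRing.maximalIdeal (X.presheaf.stalk x) ^ N →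
    N * M.o (ptI x) j ≤ M.o b j

/-- **TOWER** (helper134, helper165, helper633) -/
def NTower : Prop :=
  -- (T1)
  (∀ (N M : Model p) (h : N.Over M) (I : X.IdealSheafData), I ≠ ⊥ → M.IsMon I →
    ∀ j, N.o I j = ∑ i, M.o I i * h.e j i) ∧
  -- (T2), from (J2), (J4)
  (∀ (N M : Model p) (h : N.Over M) (j : Fin N.r), ∑ i, M.A i * h.e j i ≤ N.A j) ∧
  -- (T3) strict transforms
  (∀ (N M : Model p) (h : N.Over M) (j : Fin N.r) (i : Fin M.r), h.ν (N.gp j) = M.gp i →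
    N.A j = M.A i ∧ ∀ I : X.IdealSheafData, N.o I j = M.o I i) ∧
  -- (T4)
  (∀ (N M : Model p) (h : N.Over M) (j : Fin N.r) (i : Fin M.r), h.e j i ≠ 0 → M.c i ⤳ N.c j) ∧
  -- (T5)
  (∀ (M : Model p) (I : X.IdealSheafData) (i : Fin M.r), I ≠ ⊥ → (M.o I i = 0 ↔ M.c i ∉ I.support)) ∧
  -- (T6)
  (∀ (M : Model p) (x : X), IsClosed ({x} : Set X) → 1 ≤ n → M.IsMon (ptI x) → ∃ i, M.c i = x)

/-- the value group facts used for `fr`: at the generic point of `E_i` -/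
def NVal : Prop :=
  ∀ (M : Model p) (e : Fin M.r → ℕ) (i : Fin M.r) (f : M.Y.functionField),
    (f ∈ M.fr e (M.gp i) ↔ ∀ a ∈ IsLocalRing.maximalIdeal (M.Y.presheaf.stalk (M.gp i)) ^ (M.A i - 1),
      ∃ b ∈ IsLocalRing.maximalIdeal (M.Y.presheaf.stalk (M.gp i)) ^ (e i),
        algebraMap (M.Y.presheaf.stalk (M.gp i)) M.Y.functionField b = f * algebraMap _ _ a)

/-! ### Statements on the level of states -/

/-- **MULT** (helper577 with helper268: SKODA + RED + LEN). -/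
def NMult : Prop :=
  ∀ (M : Model p) (B : Bd L) (x w : X), Lc M B x w → ∀ d : ℕ, topologicalKrullDim (closure {w} : Set X) = d →
    (∃ j, B.I j = ptI w ∧ 0 < B.c j) →
    ∀ β : ℚ, 0 < β → (∀ i, M.c i = x → β * M.o (ptI x) i ≤ B.ld M i) →
    ⌈β⌉₊ ≤ d ∧ ∀ j : ℕ, Module.length (X.presheaf.stalk x)
        (X.presheaf.stalk x ⧸ (stalkIdeal (ptI w) x ⊔ IsLocalRing.maximalIdeal (X.presheaf.stalk x) ^ j)) ≤
      ((n - ⌈β⌉₊).choose (n - d) * (j + d - 1).choose d : ℕ)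

/-- **MULT, start** (helper577): `B = 0`, on a model on which `m_x` is monomial some `E_i` over `x` has
`A i ≤ n ord_i (m_x)`, and `length (O_x / m_x^j) ≤ choose (j+n-1) n`. -/
def NMult0 [IrreducibleSpace X] : Prop :=
  ∀ (M : Model p) (x : X), IsClosed ({x} : Set X) → M.IsMon (ptI x) → 1 ≤ n →
    (∃ i, M.c i = x ∧ M.A i ≤ n * M.o (ptI x) i) ∧
    ∀ j : ℕ, Module.length (X.presheaf.stalk x)
        (X.presheaf.stalk x ⧸ (stalkIdeal (ptI (genericPoint X)) x ⊔ IsLocalRing.maximalIdeal (X.presheaf.stalk x) ^ j)) ≤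
      ((j + n - 1).choose n : ℕ)

/-- **CONN** (helper699). -/
def NConn : Prop :=
  ∀ (M : Model p) (B : Bd L) (x w : X), Lc M B x w → ∀ β : ℚ, 0 < β →
    (∀ i, M.c i = x → β * M.o (ptI x) i ≤ B.ld M i) → (∃ i, M.c i = x ∧ B.ld M i = β * M.o (ptI x) i) →
    ∃ i j, M.c i = w ∧ B.ld M i = 0 ∧ M.c j = x ∧ B.ld M j = β * M.o (ptI x) j ∧
      ∃ y, y ∈ (M.E i).support ∧ y ∈ (M.E j).support ∧ M.μ y = x

/-- **FIN** (helper680 / helper800: END + global vanishing): all lc places through `x` have centre `x`. -/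
def NFin : Prop :=
  ∀ (M : Model p) (B : Bd L) (x : X), IsClosed ({x} : Set X) → B.IsMon M →
    (∀ i, M.c i ⤳ x → 0 ≤ B.ld M i) → (∀ i, M.c i ⤳ x → B.ld M i = 0 → M.c i = x) →
    (∃ i, M.c i = x ∧ B.ld M i = 0) → ∀ ω : X.Modules, Canon.IsTopDiff p n ω → ∀ l : ℕ, B.price < l →
    GenAt (CohB1.tensorMod ω (CohB1.tensorPow L l)) x

end Nodes

end K633.Fuj
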