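import Groth.Agent.AdjLin.K633.Plan

/-!
# Assembly, part 1: boundaries, towers of models, tie breaking
-/

set_option autoImplicit false
universe u

open CategoryTheory CategoryTheory.Limits AlgebraicGeometry TopologicalSpace
open Groth.Agent.Divis.CartierBasic (stalkIdeal)

noncomputable section

namespace K633.Fuj

variable {k : Type u} [Field k] {X : Scheme.{u}} {p : X ⟶ Spec (CommRingCat.of k)} {n : ℕ} {L : X.Modules}

/-! ### Operations on boundaries -/

/-- the zero boundary -/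
def Bd.zero (L : X.Modules) : Bd L where
  m := 0
  I := Fin.elim0
  a := Fin.elim0
  c := Fin.elim0
  ne := fun j => j.elim0
  gg := fun j => j.elim0
  nonneg := fun j => j.elim0

/-- `t B + c [I]` -/
def Bd.add (B : Bd L) (t : ℚ) (ht : 0 ≤ t) (I : X.IdealSheafData) (a : ℕ) (c : ℚ) (hI : I ≠ ⊥) (hg : GG L a I)
    (hc : 0 ≤ c) : Bd L where
  m := B.m + 1
  I := Fin.cons I B.I
  a := Fin.cons a B.a
  c := Fin.cons c fun j => t * B.c j
  ne := fun j => by
    refine Fin.cases ?_ (fun i => ?_) j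
    · simpa using hI
    · simpa using B.ne i
  gg := fun j => by
    refine Fin.cases ?_ (fun i => ?_) j
    · simpa using hg
    · simpa using B.gg i
  nonneg := fun j => by
    refine Fin.cases ?_ (fun i => ?_) j
    · simpa using hc
    · simpa using mul_nonneg ht (B.nonneg i)

theorem Bd.price_nonneg (B : Bd L) : 0 ≤ B.price :=
  Finset.sum_nonneg fun j _ => mul_nonneg (B.nonneg j) (Nat.cast_nonneg _)

theorem Bd.o_nonneg (B : Bd L) (M : Model p) (i : Fin M.r) : 0 ≤ B.o M i :=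
  Finset.sum_nonneg fun j _ => mul_nonneg (B.nonneg j) (Nat.cast_nonneg _)

@[simp] theorem Bd.price_zero : (Bd.zero L).price = 0 := rfl

@[simp] theorem Bd.o_zero (M : Model p) (i : Fin M.r) : (Bd.zero L).o M i = 0 := rfl

theorem Bd.isMon_zero (M : Model p) : (Bd.zero L).IsMon M := fun j => j.elim0

section add

variable (B : Bd L) (t : ℚ) (ht : 0 ≤ t) (I : X.IdealSheafData) (a : ℕ) (c : ℚ) (hI : I ≠ ⊥) (hg : GG L a I)
    (hc : 0 ≤ c)

theorem Bd.price_add : (B.add t ht I a c hI hg hc).price = c * a + t * B.price := by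
  rw [Bd.price, Bd.price, Finset.mul_sum]
  change ∑ j : Fin (B.m + 1), _ = _
  rw [Fin.sum_univ_succ]
  congr 1
  exact Finset.sum_congr rfl fun j _ => mul_assoc _ _ _

theorem Bd.o_add (M : Model p) (i : Fin M.r) : (B.add t ht I a c hI hg hc).o M i = c * M.o I i + t * B.o M i := by
  rw [Bd.o, Bd.o, Finset.mul_sum]
  change ∑ j : Fin (B.m + 1), _ = _
  rw [Fin.sum_univ_succ]
  congr 1
  exact Finset.sum_congr rfl fun j _ => mul_assoc _ _ _

theorem Bd.ld_add (M : Model p) (i : Fin M.r) :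
    (B.add t ht I a c hI hg hc).ld M i = M.A i - c * M.o I i - t * B.o M i := by
  rw [Bd.ld, Bd.o_add]
  ring

theorem Bd.isMon_add {M : Model p} (h : B.IsMon M) (h' : M.IsMon I) : (B.add t ht I a c hI hg hc).IsMon M := by
  intro j
  refine Fin.cases ?_ (fun i => ?_) j
  · exact h'
  · exact h i

end add

/-! ### Towers -/

/-- composition of towers -/
def Model.Over.comp {N' N M : Model p} (h' : N'.Over N) (h : N.Over M) : N'.Over M where
  ν := h'.ν ≫ h.ν
  w := by rw [Category.assoc, h.w, h'.w]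

/-- the identity tower -/
def Model.Over.id (M : Model p) : M.Over M where
  ν := 𝟙 _
  w := Category.id_comp _

theorem Model.one_le_A (M : Model p) (i : Fin M.r) : 1 ≤ M.A i := Nat.le_add_right _ _

section Tower

variable (hT : NTower p n)
include hT

theorem tower_o {N M : Model p} (h : N.Over M) (B : Bd L) (hB : B.IsMon M) (j : Fin N.r) :
    B.o N j = ∑ i, B.o M i * h.e j i := by
  rw [Bd.o]
  simp only [Bd.o, Finset.sum_mul]
  rw [Finset.sum_comm]
  refine Finset.sum_congr rfl fun s _ => ?_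
  rw [hT.1 N M h (B.I s) (B.ne s) (hB s) j]
  push_cast
  rw [Finset.mul_sum]
  exact Finset.sum_congr rfl fun i _ => by ring

theorem tower_ld {N M : Model p} (h : N.Over M) (B : Bd L) (hB : B.IsMon M) (j : Fin N.r) :
    ∑ i, B.ld M i * h.e j i ≤ B.ld N j := by
  have h2 := hT.2.1 N M h j
  have h2' : (∑ i, (M.A i : ℚ) * h.e j i) ≤ N.A j := by exact_mod_cast h2
  rw [Bd.ld, tower_o hT h B hB j]
  have h3 : ∑ i, B.ld M i * (h.e j i : ℚ) = (∑ i, (M.A i : ℚ) * h.e j i) - ∑ i, B.o M i * h.e j i := by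
    rw [← Finset.sum_sub_distrib]
    exact Finset.sum_congr rfl fun i _ => by rw [Bd.ld]; ring
  rw [h3]
  linarith

/-- log canonicity at `x` passes to higher models -/
theorem tower_nonneg {N M : Model p} (h : N.Over M) (B : Bd L) (hB : B.IsMon M) {x : X}
    (hnn : ∀ i, M.c i ⤳ x → 0 ≤ B.ld M i) (j : Fin N.r) (hj : N.c j ⤳ x) : 0 ≤ B.ld N j := by
  refine le_trans (Finset.sum_nonneg fun i _ => ?_) (tower_ld hT h B hB j)
  by_cases he : h.e j i = 0
  · rw [he, Nat.cast_zero, mul_zero]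
  · exact mul_nonneg (hnn i ((hT.2.2.2.1 N M h j i he).trans hj)) (Nat.cast_nonneg _)

/-- lc places on higher models are monomial combinations of lc places -/
theorem tower_zero {N M : Model p} (h : N.Over M) (B : Bd L) (hB : B.IsMon M) {x : X}
    (hnn : ∀ i, M.c i ⤳ x → 0 ≤ B.ld M i) (j : Fin N.r) (hj : N.c j ⤳ x) (h0 : B.ld N j = 0) :
    (∀ i, h.e j i ≠ 0 → B.ld M i = 0) ∧ (N.A j = ∑ i, M.A i * h.e j i) ∧ ∃ i, h.e j i ≠ 0 := by
  have h1 := tower_ld hT h B hB j
  rw [h0] at h1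
  have h2 : ∀ i, 0 ≤ B.ld M i * (h.e j i : ℚ) := fun i => by
    by_cases he : h.e j i = 0
    · rw [he, Nat.cast_zero, mul_zero]
    · exact mul_nonneg (hnn i ((hT.2.2.2.1 N M h j i he).trans hj)) (Nat.cast_nonneg _)
  have h3 : ∑ i, B.ld M i * (h.e j i : ℚ) = 0 := le_antisymm h1 (Finset.sum_nonneg fun i _ => h2 i)
  have h4 : ∀ i, B.ld M i * (h.e j i : ℚ) = 0 := fun i =>
    (Finset.sum_eq_zero_iff_of_nonneg fun i _ => h2 i).1 h3 i (Finset.mem_univ i)
  have h5 : N.A j = ∑ i, M.A i * h.e j i := by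
    have e1 : ∑ i, B.ld M i * (h.e j i : ℚ) = (∑ i, (M.A i : ℚ) * h.e j i) - ∑ i, B.o M i * h.e j i := by
      rw [← Finset.sum_sub_distrib]
      exact Finset.sum_congr rfl fun i _ => by rw [Bd.ld]; ring
    rw [h3] at e1
    rw [Bd.ld, tower_o hT h B hB j] at h0
    have : (N.A j : ℚ) = ∑ i, (M.A i : ℚ) * h.e j i := by linarith
    exact_mod_cast this
  refine ⟨fun i hi => ?_, h5, ?_⟩
  · have := h4 i
    rcases mul_eq_zero.1 this with h | h
    · exact h
    · exact absurd (by exact_mod_cast h) hi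
  · by_contra hne
    push Not at hne
    have : N.A j = 0 := by
      rw [h5]
      exact Finset.sum_eq_zero fun i _ => by rw [hne i, mul_zero]
    have := N.one_le_A j
    omega

end Tower

/-! ### Small parameters -/

theorem exists_small {ι : Type*} (s : Finset ι) (C D : ι → ℚ) (hD : ∀ i ∈ s, 0 < D i) :
    ∃ η : ℚ, 0 < η ∧ η ≤ 1 ∧ ∀ η' : ℚ, 0 ≤ η' → η' ≤ η → ∀ i ∈ s, η' * C i < D i := by
  classical
  induction s using Finset.induction_on with
  | empty => exact ⟨1, one_pos, le_rfl, fun _ _ _ i hi => absurd hi (Finset.notMem_empty i)⟩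
  | insert a s ha ih =>
    obtain ⟨η, h0, h1, h⟩ := ih fun i hi => hD i (Finset.mem_insert_of_mem hi)
    have hDa := hD a (Finset.mem_insert_self a s)
    have hpos : 0 < D a / (|C a| + 1) := by positivity
    refine ⟨min η (D a / (|C a| + 1)), lt_min h0 hpos, (min_le_left _ _).trans h1, fun η' hη0 hη i hi => ?_⟩
    rcases Finset.mem_insert.1 hi with rfl | hi
    · have h2 : η' ≤ D i / (|C i| + 1) := hη.trans (min_le_right _ _)
      have h3 : η' * (|C i| + 1) ≤ D i := by rwa [le_div_iff₀ (by positivity)] at h2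
      rcases hη0.eq_or_lt with h4 | h4
      · rw [← h4, zero_mul]; exact hDa
      · calc η' * C i ≤ η' * |C i| := mul_le_mul_of_nonneg_left (le_abs_self _) hη0
          _ < η' * (|C i| + 1) := by nlinarith
          _ ≤ D i := h3
    · exact h η' hη0 (hη.trans (min_le_left _ _)) i hi

/-! ### Log resolution for lists -/

theorem lrl (hLR : NLR p) (M : Model p) (l : List X.IdealSheafData) (hl : ∀ I ∈ l, I ≠ ⊥) :
    ∃ (N : Model p) (h : N.Over M), (∀ I ∈ l, N.IsMon I) ∧ ∀ i : Fin M.r, ∃ j : Fin N.r, h.ν (N.gp j) = M.gp i := by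
  obtain ⟨N, h, h1, h2⟩ := hLR M l.length (fun j => l.get j) fun j => hl _ (List.get_mem l j)
  refine ⟨N, h, fun I hI => ?_, h2⟩
  obtain ⟨j, rfl⟩ := List.get_of_mem hI
  exact h1 j

theorem lrB (hLR : NLR p) (M : Model p) (B : Bd L) (l : List X.IdealSheafData) (hl : ∀ I ∈ l, I ≠ ⊥) :
    ∃ (N : Model p) (h : N.Over M), B.IsMon N ∧ (∀ I ∈ l, N.IsMon I) ∧
      ∀ i : Fin M.r, ∃ j : Fin N.r, h.ν (N.gp j) = M.gp i := by
  obtain ⟨N, h, h1, h2⟩ := lrl hLR M (List.ofFn B.I ++ l) fun I hI => by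
    rcases List.mem_append.1 hI with hI | hI
    · obtain ⟨j, rfl⟩ := (List.mem_ofFn' _ _).1 hI
      exact B.ne j
    · exact hl I hI
  exact ⟨N, h, fun j => h1 _ (List.mem_append_left _ ((List.mem_ofFn' _ _).2 ⟨j, rfl⟩)),
    fun I hI => h1 I (List.mem_append_right _ hI), h2⟩

end K633.Fuj
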