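import Groth.Agent.AdjLin.K633.Asm1

/-!
# Assembly, part 2: states and tie breaking
-/

set_option autoImplicit false
universe u

open CategoryTheory CategoryTheory.Limits AlgebraicGeometry TopologicalSpace
open Groth.Agent.Divis.CartierBasic (stalkIdeal)

noncomputable section

namespace K633.Fuj

variable {k : Type u} [Field k] {X : Scheme.{u}} {p : X ⟶ Spec (CommRingCat.of k)} {n : ℕ} {L : X.Modules}

/-! ### The ideals of points -/

theorem mem_support_ptI {w y : X} : y ∈ (ptI w).support ↔ w ⤳ y := by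
  rw [← SetLike.mem_coe, ptI, Scheme.IdealSheafData.coe_support_vanishingIdeal, specializes_iff_mem_closure]
  rfl

theorem ptI_ne_bot {w y : X} (h : ¬ w ⤳ y) : ptI w ≠ ⊥ := by
  intro e
  apply h
  rw [← mem_support_ptI, e, Scheme.IdealSheafData.support_bot]
  trivial

theorem eq_of_specializes {x y : X} (hx : IsClosed ({x} : Set X)) (h : x ⤳ y) : y = x := by
  have := h.mem_closure
  rwa [hx.closure_eq] at this

/-! ### Towers with strict transforms -/

/-- every member of the family of `M` has a strict transform in the family of `N` -/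
def Model.Over.Strict {N M : Model p} (h : N.Over M) : Prop :=
  ∀ i : Fin M.r, ∃ j : Fin N.r, h.ν (N.gp j) = M.gp i

theorem Model.Over.strict_id (M : Model p) : (Model.Over.id M).Strict := fun i => ⟨i, by
  rw [Model.Over.id]
  rfl⟩

theorem Model.Over.Strict.comp {N' N M : Model p} {h' : N'.Over N} {h : N.Over M} (s' : h'.Strict) (s : h.Strict) :
    (h'.comp h).Strict := by
  intro i
  obtain ⟨j, hj⟩ := s i
  obtain ⟨j', hj'⟩ := s' j
  refine ⟨j', ?_⟩
  change (h'.ν ≫ h.ν) _ = _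
  rw [Scheme.Hom.comp_apply, hj', hj]

theorem c_eq_of_strict {N M : Model p} (h : N.Over M) {j : Fin N.r} {i : Fin M.r} (hij : h.ν (N.gp j) = M.gp i) :
    N.c j = M.c i := by
  rw [Model.c, Model.c, ← hij, ← h.w, Scheme.Hom.comp_apply]

section

variable (hT : NTower p n)
include hT

theorem bo_eq_of_strict {N M : Model p} (h : N.Over M) {j : Fin N.r} {i : Fin M.r} (hij : h.ν (N.gp j) = M.gp i)
    (B : Bd L) : B.o N j = B.o M i := by
  rw [Bd.o, Bd.o]
  exact Finset.sum_congr rfl fun s _ => by rw [(hT.2.2.1 N M h j i hij).2]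

theorem ld_eq_of_strict {N M : Model p} (h : N.Over M) {j : Fin N.r} {i : Fin M.r} (hij : h.ν (N.gp j) = M.gp i)
    (B : Bd L) : B.ld N j = B.ld M i := by
  rw [Bd.ld, Bd.ld, bo_eq_of_strict hT h hij, (hT.2.2.1 N M h j i hij).1]

end

/-- A state of the descent: `(X, B)` is log canonical at `x` and on all higher models all lc places through `x` have
centre `w`. -/
structure St (M : Model p) (B : Bd L) (x w : X) : Prop where
  spec : w ⤳ x
  monB : B.IsMon M
  monx : M.IsMon (ptI x)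
  monw : M.IsMon (ptI w)
  coef : ∃ j, B.I j = ptI w ∧ 0 < B.c j
  ex : ∃ i, M.c i = w ∧ B.ld M i = 0
  above : ∀ (N : Model p) (h : N.Over M), h.Strict → ∀ j, N.c j ⤳ x → 0 ≤ B.ld N j ∧ (B.ld N j = 0 → N.c j = w)

theorem tie [NoetherianSpace X] (hT : NTower p n) (hLR : NLR p) (hGG : NGG L) {x : X} (hx : IsClosed ({x} : Set X))
    (w₀ : X) (M : Model p) (B : Bd L) (hB : B.IsMon M) (hnn : ∀ i, M.c i ⤳ x → 0 ≤ B.ld M i)
    (hc : ∀ i, M.c i ⤳ x → B.ld M i = 0 → w₀ ⤳ M.c i ∧ M.c i ≠ w₀) (hex : ∃ i, M.c i ⤳ x ∧ B.ld M i = 0)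
    (j : Fin M.r) (hj : M.c j = x) (ε : ℚ) (hε : 0 < ε) :
    ∃ (N : Model p) (h : N.Over M) (B' : Bd L) (w : X), St N B' x w ∧ w₀ ⤳ w ∧ w ≠ w₀ ∧ h.Strict ∧
      B'.price ≤ B.price + ε ∧ ∃ j', N.c j' = x ∧ N.o (ptI x) j' = M.o (ptI x) j ∧ B'.ld N j' ≤ B.ld M j + ε := by
  classical
  -- lc centres on higher models
  let S : Set (Closeds X) := {C | ∃ (N : Model p) (h : N.Over M) (j : Fin N.r), h.Strict ∧ N.c j ⤳ x ∧
    B.ld N j = 0 ∧ C = ⟨closure {N.c j}, isClosed_closure⟩}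
  have hS : S.Nonempty := by
    obtain ⟨i, hi, hi0⟩ := hex
    exact ⟨_, M, Model.Over.id M, i, Model.Over.strict_id M, hi, hi0, rfl⟩
  obtain ⟨C, ⟨N₁, h₁, j₁, hs₁, hj₁x, hj₁0, rfl⟩, hmin⟩ := WellFounded.has_min (wellFounded_lt (α := Closeds X)) S hS
  set w := N₁.c j₁ with hw
  -- minimality
  have key : ∀ (N : Model p) (h : N.Over M) (j : Fin N.r), h.Strict → N.c j ⤳ x → B.ld N j = 0 → w ⤳ N.c j →
      N.c j = w := by
    intro N h j hs hjx hj0 hwj
    have h1 := hmin _ ⟨N, h, j, hs, hjx, hj0, rfl⟩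
    by_contra hne
    apply h1
    rw [lt_iff_le_not_ge]
    constructor
    · intro y hy
      exact hwj.closure_subset hy
    · intro hle
      apply hne
      have : w ∈ closure {N.c j} := hle (subset_closure rfl)
      exact (hwj.antisymm (specializes_iff_mem_closure.2 this)).eq.symm
  -- the new centre is strictly smaller
  have hcen : ∀ (N : Model p) (h : N.Over M) (j : Fin N.r), N.c j ⤳ x → B.ld N j = 0 →
      w₀ ⤳ N.c j ∧ N.c j ≠ w₀ := by
    intro N h j hjx hj0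
    obtain ⟨h1, -, i, hi⟩ := tower_zero hT h B hB hnn j hjx hj0
    have h2 := hT.2.2.2.1 N M h j i hi
    obtain ⟨h3, h4⟩ := hc i (h2.trans hjx) (h1 i hi)
    refine ⟨h3.trans h2, fun e => h4 ?_⟩
    rw [e] at h2
    exact (h2.antisymm h3).eq
  obtain ⟨hw₀, hww₀⟩ := hcen N₁ h₁ j₁ hj₁x hj₁0
  have hwbot : ptI w ≠ ⊥ := ptI_ne_bot (y := w₀) fun h => hww₀ (h.antisymm hw₀).eq
  have hxbot : ptI x ≠ ⊥ := ptI_ne_bot (y := w₀) fun h => by
    have e := eq_of_specializes hx h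
    rw [e] at hw₀
    have e2 := eq_of_specializes hx hw₀
    exact hww₀ (e2.trans e.symm)
  obtain ⟨a, ha⟩ := hGG.1 (ptI w)
  have hGw := ha a le_rfl
  obtain ⟨N, h₂, hBN, hmonl, hs₂⟩ := lrB hLR N₁ B [ptI x, ptI w] (by
    intro I hI
    rcases List.mem_cons.1 hI with rfl | hI
    · exact hxbot
    · rcases List.mem_cons.1 hI with rfl | hI
      · exact hwbot
      · exact absurd hI List.not_mem_nil)
  have hmx : N.IsMon (ptI x) := hmonl _ (by simp)
  have hmw : N.IsMon (ptI w) := hmonl _ (by simp)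
  have hs₂' : h₂.Strict := hs₂
  have hN : (h₂.comp h₁).Strict := hs₂'.comp hs₁
  obtain ⟨j₂, hj₂⟩ := hs₂ j₁
  have hj₂c : N.c j₂ = w := c_eq_of_strict h₂ hj₂
  have hj₂0 : B.ld N j₂ = 0 := (ld_eq_of_strict hT h₂ hj₂ B).trans hj₁0
  obtain ⟨j', hj'⟩ := hN j
  have hj'c : N.c j' = x := (c_eq_of_strict _ hj').trans hj
  -- all `ld ≥ 0` on `N`
  have hnnN : ∀ i, N.c i ⤳ x → 0 ≤ B.ld N i := fun i hi => tower_nonneg hT (h₂.comp h₁) B hB hnn i hi
  have hopos : ∀ i, w ⤳ N.c i → 0 < (N.o (ptI w) i : ℚ) := fun i hi => by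
    have := (hT.2.2.2.2.1 N (ptI w) i hwbot).not.2 (not_not.2 (mem_support_ptI.2 hi))
    exact_mod_cast Nat.pos_of_ne_zero this
  -- the maximal ratio
  let LC : Finset (Fin N.r) := Finset.univ.filter fun i => N.c i ⤳ x ∧ B.ld N i = 0
  have hj₂LC : j₂ ∈ LC := Finset.mem_filter.2 ⟨Finset.mem_univ _, by rw [hj₂c]; exact hj₁x, hj₂0⟩
  obtain ⟨i₀, hi₀, hmax⟩ := Finset.exists_max_image LC (fun i => (N.o (ptI w) i : ℚ) / N.A i) ⟨j₂, hj₂LC⟩
  have hApos : ∀ i, 0 < (N.A i : ℚ) := fun i => by exact_mod_cast N.one_le_A i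
  set ρ : ℚ := (N.o (ptI w) i₀ : ℚ) / N.A i₀ with hρ
  have hρpos : 0 < ρ := by
    refine lt_of_lt_of_le ?_ (hmax j₂ hj₂LC)
    exact div_pos (hopos j₂ (by rw [hj₂c])) (hApos _)
  obtain ⟨-, hi₀x, hi₀0⟩ := Finset.mem_filter.1 hi₀
  -- the small parameter
  obtain ⟨η₁, hη₁, hη₁1, hη₁'⟩ := exists_small (Finset.univ.filter fun i => N.c i ⤳ x ∧ 0 < B.ld N i)
    (fun i => (N.o (ptI w) i : ℚ)) (fun i => B.ld N i) fun i hi => (Finset.mem_filter.1 hi).2.2
  obtain ⟨η₂, hη₂, hη₂1, hη₂'⟩ := exists_small (Finset.univ : Finset (Fin 3))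
    ![(a : ℚ), ρ * B.o N j', ρ] ![ε, ε, 1] (by
      intro i _
      fin_cases i
      · exact hε
      · exact hε
      · exact one_pos)
  set η := min η₁ η₂ with hη
  have hηpos : 0 < η := lt_min hη₁ hη₂
  have c1 : η * a < ε := by simpa using hη₂' η hηpos.le (min_le_right _ _) 0 (Finset.mem_univ _)
  have c2 : η * (ρ * B.o N j') < ε := by simpa using hη₂' η hηpos.le (min_le_right _ _) 1 (Finset.mem_univ _)
  have c3 : η * ρ < 1 := by simpa using hη₂' η hηpos.le (min_le_right _ _) 2 (Finset.mem_univ _)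
  have ht : 0 ≤ 1 - η * ρ := by linarith
  have hηρ : 0 < η * ρ := mul_pos hηpos hρpos
  set B' : Bd L := B.add (1 - η * ρ) ht (ptI w) a η hwbot hGw hηpos.le with hB'
  have hld : ∀ i, B'.ld N i = B.ld N i + η * (ρ * B.o N i - N.o (ptI w) i) := fun i => by
    rw [hB', Bd.ld_add, Bd.ld]
    ring
  have hB'N : B'.IsMon N := Bd.isMon_add B _ _ _ _ _ _ _ _ hBN hmw
  -- `ld' ≥ 0`, with equality only for maximizers in `LC`
  have hcase : ∀ i, N.c i ⤳ x → 0 ≤ B'.ld N i ∧ (B'.ld N i = 0 → B.ld N i = 0 ∧ N.c i = w) := by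
    intro i hi
    rcases (hnnN i hi).eq_or_lt with h0 | h0
    · have hiLC : i ∈ LC := Finset.mem_filter.2 ⟨Finset.mem_univ _, hi, h0.symm⟩
      have h1 := hmax i hiLC
      rw [div_le_iff₀ (hApos i)] at h1
      have h2 : B.o N i = N.A i := by
        have := h0.symm
        rw [Bd.ld] at this
        linarith
      rw [hld, ← h0, zero_add, h2]
      refine ⟨mul_nonneg hηpos.le (by linarith), fun h3 => ⟨rfl, ?_⟩⟩
      rcases mul_eq_zero.1 h3 with h4 | h4
      · exact absurd h4 hηpos.ne'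
      · have h5 : (N.o (ptI w) i : ℚ) ≠ 0 := by
          have : 0 < ρ * N.A i := mul_pos hρpos (hApos i)
          linarith
        have h6 : N.o (ptI w) i ≠ 0 := by exact_mod_cast h5
        have h7 : N.c i ∈ (ptI w).support := by
          by_contra h8
          exact h6 ((hT.2.2.2.2.1 N (ptI w) i hwbot).2 h8)
        exact key N (h₂.comp h₁) i hN hi h0.symm (mem_support_ptI.1 h7)
    · have h1 := hη₁' η hηpos.le (min_le_left _ _) i (Finset.mem_filter.2 ⟨Finset.mem_univ _, hi, h0⟩)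
      have h2 : 0 ≤ η * (ρ * B.o N i) := mul_nonneg hηpos.le (mul_nonneg hρpos.le (B.o_nonneg N i))
      have h3 : 0 < B'.ld N i := by
        rw [hld]
        nlinarith
      exact ⟨h3.le, fun h4 => absurd h4 h3.ne'⟩
  have hi₀' : B'.ld N i₀ = 0 := by
    have h2 : B.o N i₀ = N.A i₀ := by
      have := hi₀0
      rw [Bd.ld] at this
      linarith
    rw [hld, hi₀0, h2, hρ, div_mul_cancel₀ _ (hApos i₀).ne', sub_self, mul_zero, add_zero]
  refine ⟨N, h₂.comp h₁, B', w, ⟨hj₁x, hB'N, hmx, hmw, ⟨(0 : Fin (B.m + 1)), rfl, hηpos⟩,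
    ⟨i₀, (hcase i₀ hi₀x).2 hi₀' |>.2, hi₀'⟩, ?_⟩, hw₀, hww₀, hN, ?_, j', hj'c, (hT.2.2.1 N M _ j' j hj').2 _, ?_⟩
  · intro N₃ h₃ hs₃ i hi
    refine ⟨tower_nonneg hT h₃ B' hB'N (fun i hi => (hcase i hi).1) i hi, fun h0 => ?_⟩
    obtain ⟨g1, g2, i', hi'⟩ := tower_zero hT h₃ B' hB'N (fun i hi => (hcase i hi).1) i hi h0
    have hsp : ∀ i', h₃.e i i' ≠ 0 → N.c i' ⤳ x := fun i' hi' => (hT.2.2.2.1 N₃ N h₃ i i' hi').trans hi
    have g3 : B.ld N₃ i = 0 := by
      rw [Bd.ld, tower_o hT h₃ B hBN i, g2]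
      push_cast
      rw [← Finset.sum_sub_distrib]
      refine Finset.sum_eq_zero fun s _ => ?_
      by_cases hs : h₃.e i s = 0
      · rw [hs, Nat.cast_zero, mul_zero, mul_zero, sub_zero]
      · have := ((hcase s (hsp s hs)).2 (g1 s hs)).1
        rw [Bd.ld] at this
        rw [← sub_mul, this, zero_mul]
    have g4 : N.c i' = w := ((hcase i' (hsp i' hi')).2 (g1 i' hi')).2
    exact key N₃ (h₃.comp (h₂.comp h₁)) i (hs₃.comp hN) hi g3 (g4 ▸ hT.2.2.2.1 N₃ N h₃ i i' hi')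
  · rw [hB', Bd.price_add]
    have := B.price_nonneg
    nlinarith
  · rw [hld, ld_eq_of_strict hT _ hj' B]
    have h1 : (0 : ℚ) ≤ N.o (ptI w) j' := Nat.cast_nonneg _
    nlinarith

end K633.Fuj
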