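import Groth.Agent.AdjLin.K633.Asm2

/-!
# Assembly, part 3: cutting down the centre
-/

set_option autoImplicit false
universe u

open CategoryTheory CategoryTheory.Limits AlgebraicGeometry TopologicalSpace
open Groth.Agent.Divis.CartierBasic (stalkIdeal)

noncomputable section

namespace K633.Fuj

open Groth.Agent.Divis.CartierBasic (stalkIdeal_pow stalkIdeal_sup stalkIdeal_mono mem_support_iff_stalkIdeal_ne_top)

variable {k : Type u} [Field k] {X : Scheme.{u}} {p : X ⟶ Spec (CommRingCat.of k)} {n : ℕ} {L : X.Modules}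

theorem notMem_support_of_stalkIdeal {Y : Scheme.{u}} {I : Y.IdealSheafData} {y : Y} (h : stalkIdeal I y = ⊤) :
    y ∉ I.support := fun hy => (mem_support_iff_stalkIdeal_ne_top I y).1 hy h

theorem pow_le_sup_pow {R : Type u} [CommRing R] {I P m : Ideal R} {j : ℕ} (h : I ≤ P ⊔ m ^ j) (r : ℕ) :
    I ^ r ⊔ P ≤ P ⊔ m ^ (r * j) := by
  refine sup_le ?_ le_sup_left
  induction r with
  | zero =>
    rw [Nat.zero_mul, pow_zero, pow_zero]
    exact le_sup_right (a := P) (b := (1 : Ideal R))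
  | succ r ih =>
    have h1 : (P ⊔ m ^ (r * j)) * (P ⊔ m ^ j) ≤ P ⊔ m ^ (r * j) * m ^ j := by
      rw [Ideal.sup_mul, Ideal.mul_sup (m ^ (r * j))]
      refine sup_le ((Ideal.mul_le_left : P * (P ⊔ m ^ j) ≤ P).trans le_sup_left) (sup_le ?_ le_sup_right)
      exact (Ideal.mul_le_right : m ^ (r * j) * P ≤ P).trans le_sup_left
    have h2 : m ^ ((r + 1) * j) = m ^ (r * j) * m ^ j := by rw [← pow_add, Nat.succ_mul]
    rw [pow_succ, h2]
    exact (Ideal.mul_mono ih h).trans h1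

theorem ptI_x_ne_bot {x w : X} (hx : IsClosed ({x} : Set X)) (hwx : w ≠ x) : ptI x ≠ ⊥ :=
  ptI_ne_bot (y := w) fun h => hwx (eq_of_specializes hx h)

section

variable (hT : NTower p n)
include hT

theorem o_pos {M : Model p} {I : X.IdealSheafData} (hI : I ≠ ⊥) {i : Fin M.r} (h : M.c i ∈ I.support) :
    0 < (M.o I i : ℚ) := by
  have := (hT.2.2.2.2.1 M I i hI).not.2 (not_not.2 h)
  exact_mod_cast Nat.pos_of_ne_zero this

theorem o_ne_zero {M : Model p} {I : X.IdealSheafData} (hI : I ≠ ⊥) {i : Fin M.r} (h : M.o I i ≠ 0) :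
    M.c i ∈ I.support := by
  by_contra h'
  exact h ((hT.2.2.2.2.1 M I i hI).2 h')

/-- the threshold of `m_x` -/
theorem exists_threshold {x : X} (hxb : ptI x ≠ ⊥)
    (M : Model p) (B : Bd L) (hnn : ∀ i, M.c i = x → 0 ≤ B.ld M i) (hex : ∃ i, M.c i = x) :
    ∃ β : ℚ, 0 ≤ β ∧ (∀ i, M.c i = x → β * M.o (ptI x) i ≤ B.ld M i) ∧
      ∃ i, M.c i = x ∧ B.ld M i = β * M.o (ptI x) i := by
  classical
  have hop : ∀ i, M.c i = x → 0 < (M.o (ptI x) i : ℚ) := fun i hi =>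
    o_pos hT hxb (by rw [hi, mem_support_ptI])
  let S : Finset (Fin M.r) := Finset.univ.filter fun i => M.c i = x
  obtain ⟨i₀, hi₀⟩ := hex
  have hmS : ∀ i, i ∈ S ↔ M.c i = x := fun i => by simp [S]
  obtain ⟨i, hi, hmin⟩ := Finset.exists_min_image S (fun i => B.ld M i / (M.o (ptI x) i : ℚ)) ⟨i₀, (hmS i₀).2 hi₀⟩
  rw [hmS] at hi
  refine ⟨B.ld M i / (M.o (ptI x) i : ℚ), div_nonneg (hnn i hi) (hop i hi).le, fun j hj => ?_, i, hi, ?_⟩
  · exact (le_div_iff₀ (hop j hj)).1 (hmin j ((hmS j).2 hj))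
  · rw [div_mul_cancel₀ _ (hop i hi).ne']

set_option maxHeartbeats 1600000 in
theorem step [NoetherianSpace X] (hLR : NLR p) (hGG : NGG L) (hCo : NCount L) (hConn : NConn p L) (hLoc : NLoc p)
    {x w : X} (hx : IsClosed ({x} : Set X)) (hwx : w ≠ x) {M : Model p} {B : Bd L} (hS : St M B x w) {d : ℕ}
    (hd : topologicalKrullDim (closure {w} : Set X) = d) (hd1 : 1 ≤ d) {β : ℚ}
    (h1 : ∀ i, M.c i = x → β * M.o (ptI x) i ≤ B.ld M i) (h2 : ∃ i, M.c i = x ∧ B.ld M i = β * M.o (ptI x) i)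
    {μ₀ : ℕ} (hlen : ∀ j : ℕ, Module.length (X.presheaf.stalk x)
        (X.presheaf.stalk x ⧸ (stalkIdeal (ptI w) x ⊔ IsLocalRing.maximalIdeal (X.presheaf.stalk x) ^ j)) ≤
      (μ₀ * (j + d - 1).choose d : ℕ)) {ρ : ℚ} (hρ : 0 < ρ) (hμρ : (μ₀ : ℚ) < ρ ^ d) (ε : ℚ) (hε : 0 < ε) :
    ∃ (N : Model p) (B' : Bd L) (w' : X) (β' : ℚ), St N B' x w' ∧ w ⤳ w' ∧ w' ≠ w ∧ 0 ≤ β' ∧ β' ≤ β ∧
      (∀ i, N.c i = x → β' * N.o (ptI x) i ≤ B'.ld N i) ∧ (∃ i, N.c i = x ∧ B'.ld N i = β' * N.o (ptI x) i) ∧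
      B'.price ≤ B.price + ρ * (β - β') + ε := by
  classical
  obtain ⟨jt, q, hj1, hq1, hqρ, It, ⟨iso⟩, hItw, hItx⟩ := hCo x w hx hS.spec d hd hd1 μ₀ hlen ρ hρ hμρ
  obtain ⟨a₀, ha₀⟩ := hGG.1 (ptI w)
  set r := a₀ + 1 with hr
  have hrq : a₀ ≤ r * q := by nlinarith
  have hwb : ptI w ≠ ⊥ := by
    obtain ⟨s, hs, -⟩ := hS.coef
    rw [← hs]
    exact B.ne s
  have hxb : ptI x ≠ ⊥ := ptI_x_ne_bot hx hwx
  set b : X.IdealSheafData := It ^ r ⊔ ptI w with hb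
  have hGb : GG L (r * q) b := hGG.2.2 _ _ _ (hGG.2.1 It q r ⟨iso⟩) (ha₀ _ hrq)
  have hbb : b ≠ ⊥ := fun e => hwb (le_bot_iff.1 (e ▸ le_sup_right))
  have hbw : stalkIdeal b w = ⊤ := by
    rw [hb, stalkIdeal_sup, stalkIdeal_pow, hItw, Ideal.top_pow, top_sup_eq]
  have hwnb : w ∉ b.support := notMem_support_of_stalkIdeal hbw
  have hbsupp : ∀ y ∈ b.support, w ⤳ y ∧ y ≠ w := fun y hy => by
    refine ⟨?_, fun e => hwnb (e ▸ hy)⟩
    rw [← mem_support_ptI]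
    rw [mem_support_iff_stalkIdeal_ne_top] at hy ⊢
    exact fun e => hy (top_le_iff.1 (e ▸ stalkIdeal_mono le_sup_right y))
  have hbx : stalkIdeal b x ≤ stalkIdeal (ptI w) x ⊔ IsLocalRing.maximalIdeal (X.presheaf.stalk x) ^ (r * jt) := by
    rw [hb, stalkIdeal_sup, stalkIdeal_pow]
    exact pow_le_sup_pow hItx r
  obtain ⟨N, h, hBN, hml, hs⟩ := lrB hLR M B [ptI x, ptI w, b] (by
    intro I hI
    rcases List.mem_cons.1 hI with rfl | hI
    · exact hxb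
    · rcases List.mem_cons.1 hI with rfl | hI
      · exact hwb
      · rcases List.mem_cons.1 hI with rfl | hI
        · exact hbb
        · exact absurd hI List.not_mem_nil)
  have hmx : N.IsMon (ptI x) := hml _ (by simp)
  have hmw : N.IsMon (ptI w) := hml _ (by simp)
  have hmb : N.IsMon b := hml _ (by simp)
  have hab := hS.above N h hs
  have hLc : Lc N B x w := by
    refine ⟨hx, hS.spec, hwx, hBN, hmx, hmw, fun i hi => (hab i hi).1, fun i hi => (hab i hi).2, ?_⟩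
    obtain ⟨i, hi, hi0⟩ := hS.ex
    obtain ⟨j, hj⟩ := hs i
    exact ⟨j, (c_eq_of_strict h hj).trans hi, (ld_eq_of_strict hT h hj B).trans hi0⟩
  obtain ⟨i₂, hi₂, hi₂'⟩ := h2
  obtain ⟨j₂, hj₂⟩ := hs i₂
  have hj₂c : N.c j₂ = x := (c_eq_of_strict h hj₂).trans hi₂
  have hxx : ∀ i, N.c i = x → N.c i ⤳ x := fun i hi => by rw [hi]
  have hop : ∀ i, N.c i = x → 0 < (N.o (ptI x) i : ℚ) := fun i hi =>
    o_pos hT hxb (by rw [hi, mem_support_ptI])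
  obtain ⟨β₁, hβ₁0, hβ₁, i₃, hi₃, hi₃'⟩ := exists_threshold hT hxb N B (fun i hi => (hab i (hxx i hi)).1) ⟨j₂, hj₂c⟩
  have hβ₁β : β₁ ≤ β := by
    have e1 := hβ₁ j₂ hj₂c
    rw [ld_eq_of_strict hT h hj₂ B, hi₂', (hT.2.2.1 N M h j₂ i₂ hj₂).2 (ptI x)] at e1
    have e2 : 0 < (M.o (ptI x) i₂ : ℚ) := by
      rw [← (hT.2.2.1 N M h j₂ i₂ hj₂).2 (ptI x)]
      exact hop j₂ hj₂c
    exact le_of_mul_le_mul_right e1 e2
  have hβ₁pos : 0 < β₁ := by
    refine hβ₁0.lt_of_ne fun e => hwx ?_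
    rw [← e, zero_mul] at hi₃'
    rw [← (hab i₃ (hxx i₃ hi₃)).2 hi₃', hi₃]
  obtain ⟨i, j, hic, hi0, hjc, hj0, hy⟩ := hConn N B x w hLc β₁ hβ₁pos hβ₁ ⟨i₃, hi₃, hi₃'⟩
  have hij := hLoc N x w hx b hmb hmx i j (by rw [hic]) (by
    by_contra hne
    have := mem_support_ptI.1 (o_ne_zero hT hxb hne)
    rw [hic] at this
    exact hwx (eq_of_specializes hx this)) (by
    by_contra hne
    have := o_ne_zero hT hbb hne
    rw [hic] at this
    exact hwnb this) hy (r * jt) hbx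
  have hij' : ((r * jt : ℕ) : ℚ) * N.o (ptI x) j ≤ N.o b j := by exact_mod_cast hij
  -- the places with centre in the support of `b`
  let S : Finset (Fin N.r) := Finset.univ.filter fun i => N.c i ⤳ x ∧ N.o b i ≠ 0
  have hmS : ∀ i, i ∈ S ↔ N.c i ⤳ x ∧ N.o b i ≠ 0 := fun i => by simp [S]
  have hrj : 1 ≤ r * jt := Nat.one_le_iff_ne_zero.2 (by positivity)
  have hobj : 0 < (N.o b j : ℚ) := lt_of_lt_of_le (mul_pos (by exact_mod_cast hrj) (hop j hjc)) hij'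
  have hjS : j ∈ S := (hmS j).2 ⟨hxx j hjc, fun e => by rw [e] at hobj; simp at hobj⟩
  have hSo : ∀ i ∈ S, 0 < (N.o b i : ℚ) := fun i hi => by exact_mod_cast Nat.pos_of_ne_zero ((hmS i).1 hi).2
  have hSl : ∀ i ∈ S, 0 < B.ld N i := fun i hi => by
    obtain ⟨g1, g2⟩ := (hmS i).1 hi
    refine (hab i g1).1.lt_of_ne fun e => ?_
    exact (hbsupp _ (o_ne_zero hT hbb g2)).2 ((hab i g1).2 e.symm)
  obtain ⟨i₄, hi₄, hγ₀⟩ := Finset.exists_min_image S (fun i => B.ld N i / (N.o b i : ℚ)) ⟨j, hjS⟩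
  set γ₀ : ℚ := B.ld N i₄ / (N.o b i₄ : ℚ) with hγ₀def
  have hγ₀pos : 0 < γ₀ := div_pos (hSl i₄ hi₄) (hSo i₄ hi₄)
  -- small parameters
  obtain ⟨ε₁, hε₁, hε₁1, hε₁'⟩ := exists_small (Finset.univ : Finset (Fin 2))
    ![B.o N j, ρ * B.o N j] ![γ₀ / 2, ε / 2] (by
      intro i _
      fin_cases i
      · exact half_pos hγ₀pos
      · exact half_pos hε)
  have c1 : ε₁ * B.o N j < γ₀ / 2 := by simpa using hε₁' ε₁ hε₁.le le_rfl 0 (Finset.mem_univ _)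
  have c2 : ε₁ * (ρ * B.o N j) < ε / 2 := by simpa using hε₁' ε₁ hε₁.le le_rfl 1 (Finset.mem_univ _)
  obtain ⟨ε₂, hε₂, hε₂1, hε₂'⟩ := exists_small (Finset.univ : Finset (Fin 2))
    ![1, ρ + 1] ![γ₀ / 2, ε / 2] (by
      intro i _
      fin_cases i
      · exact half_pos hγ₀pos
      · exact half_pos hε)
  have c3 : ε₂ * 1 < γ₀ / 2 := by simpa using hε₂' ε₂ hε₂.le le_rfl 0 (Finset.mem_univ _)
  have c4 : ε₂ * (ρ + 1) < ε / 2 := by simpa using hε₂' ε₂ hε₂.le le_rfl 1 (Finset.mem_univ _)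
  -- the new coefficient
  have hoB : ∀ i, 0 ≤ B.o N i := fun i => B.o_nonneg N i
  obtain ⟨i₅, hi₅, hγ⟩ := Finset.exists_min_image S (fun i => (B.ld N i + ε₁ * B.o N i) / (N.o b i : ℚ)) ⟨j, hjS⟩
  set γ : ℚ := (B.ld N i₅ + ε₁ * B.o N i₅) / (N.o b i₅ : ℚ) with hγdef
  have hγγ₀ : γ₀ ≤ γ := by
    refine (hγ₀ i₅ hi₅).trans ?_
    rw [hγdef]
    exact div_le_div_of_nonneg_right (by nlinarith [hoB i₅]) (hSo i₅ hi₅).le
  have hγpos : 0 < γ := hγ₀pos.trans_le hγγ₀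
  have ht : 0 ≤ 1 - ε₁ := by linarith
  set B₁ : Bd L := B.add (1 - ε₁) ht b (r * q) γ hbb hGb hγpos.le with hB₁
  have hld : ∀ i, B₁.ld N i = B.ld N i + ε₁ * B.o N i - γ * N.o b i := fun i => by
    rw [hB₁, Bd.ld_add, Bd.ld]
    ring
  have hB₁N : B₁.IsMon N := Bd.isMon_add B _ _ _ _ _ _ _ _ hBN hmb
  have hcase : ∀ i, N.c i ⤳ x → 0 ≤ B₁.ld N i ∧ (B₁.ld N i = 0 → i ∈ S) := by
    intro i hi
    by_cases hiS : i ∈ S
    · have g1 := hγ i hiS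
      rw [le_div_iff₀ (hSo i hiS)] at g1
      exact ⟨by rw [hld]; linarith, fun _ => hiS⟩
    · have g1 : N.o b i = 0 := by
        by_contra hne
        exact hiS ((hmS i).2 ⟨hi, hne⟩)
      have g2 : 0 < B.ld N i + ε₁ * B.o N i := by
        rcases (hab i hi).1.eq_or_lt with e | e
        · have g3 : B.o N i = N.A i := by
            have := e.symm
            rw [Bd.ld] at this
            linarith
          have g4 : 0 < (N.A i : ℚ) := by exact_mod_cast N.one_le_A i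
          rw [← e, zero_add, g3]
          exact mul_pos hε₁ g4
        · have := mul_nonneg hε₁.le (hoB i)
          linarith
      rw [hld, g1, Nat.cast_zero, mul_zero, sub_zero]
      exact ⟨g2.le, fun e => absurd e g2.ne'⟩
  have hi₅' : B₁.ld N i₅ = 0 := by
    rw [hld, hγdef, div_mul_cancel₀ _ (hSo i₅ hi₅).ne', sub_self]
  obtain ⟨N', h', B', w', hS', hww', hne', hs', hpr, j', hj'c, hj'o, hj'l⟩ := tie hT hLR hGG hx w N B₁ hB₁N
    (fun i hi => (hcase i hi).1)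
    (fun i hi h0 => hbsupp _ (o_ne_zero hT hbb ((hmS i).1 ((hcase i hi).2 h0)).2))
    ⟨i₅, ((hmS i₅).1 hi₅).1, hi₅'⟩ j hjc ε₂ hε₂
  have hab' := hS'.above N' (Model.Over.id N') (Model.Over.strict_id N')
  obtain ⟨β', hβ'0, hβ', hβ'e⟩ := exists_threshold hT hxb N' B' (fun i hi => (hab' i (by rw [hi])).1) ⟨j', hj'c⟩
  -- estimates
  have ho1 : (1 : ℚ) ≤ N.o (ptI x) j := by
    have := hop j hjc
    exact_mod_cast Nat.one_le_iff_ne_zero.2 (fun e => by rw [e] at this; simp at this)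
  set o : ℚ := ((N.o (ptI x) j : ℕ) : ℚ) with ho
  have hest : β' ≤ β₁ + ε₁ * B.o N j + ε₂ - γ * (r * jt : ℕ) := by
    have g1 := hβ' j' hj'c
    rw [hj'o] at g1
    have g2 : β' * o ≤ (β₁ + ε₁ * B.o N j + ε₂ - γ * (r * jt : ℕ)) * o := by
      rw [hld, hj0] at hj'l
      have g3 : γ * ((r * jt : ℕ) * o) ≤ γ * N.o b j := mul_le_mul_of_nonneg_left hij' hγpos.le
      have g4 : ε₁ * B.o N j ≤ ε₁ * B.o N j * o := le_mul_of_one_le_right (mul_nonneg hε₁.le (hoB j)) ho1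
      have g5 : ε₂ ≤ ε₂ * o := le_mul_of_one_le_right hε₂.le ho1
      calc β' * o ≤ B'.ld N' j' := g1
        _ ≤ β₁ * o + ε₁ * B.o N j - γ * N.o b j + ε₂ := hj'l
        _ ≤ β₁ * o + ε₁ * B.o N j * o - γ * ((r * jt : ℕ) * o) + ε₂ * o := by linarith
        _ = _ := by ring
    exact le_of_mul_le_mul_right g2 (by linarith)
  have hrj' : (1 : ℚ) ≤ (r * jt : ℕ) := by exact_mod_cast hrj
  have hγrj : γ₀ ≤ γ * (r * jt : ℕ) := hγγ₀.trans (le_mul_of_one_le_right hγpos.le hrj')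
  refine ⟨N', B', w', β', hS', hww', hne', hβ'0, by linarith, hβ', hβ'e, ?_⟩
  have hp1 : B₁.price ≤ B.price + γ * (r * q : ℕ) := by
    rw [hB₁, Bd.price_add]
    nlinarith [B.price_nonneg]
  have hp2 : γ * ((r * q : ℕ) : ℚ) ≤ ρ * (γ * (r * jt : ℕ)) := by
    push_cast
    have : (r : ℚ) * q ≤ r * (ρ * jt) := mul_le_mul_of_nonneg_left hqρ (Nat.cast_nonneg _)
    calc γ * ((r : ℚ) * q) ≤ γ * (r * (ρ * jt)) := mul_le_mul_of_nonneg_left this hγpos.le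
      _ = _ := by ring
  have hp3 : ρ * (γ * (r * jt : ℕ)) ≤ ρ * (β₁ + ε₁ * B.o N j + ε₂ - β') :=
    mul_le_mul_of_nonneg_left (by linarith) hρ.le
  have hp4 : ρ * β₁ ≤ ρ * β := mul_le_mul_of_nonneg_left hβ₁β hρ.le
  nlinarith

end

end K633.Fuj
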