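import Groth.Agent.AdjLin.K633.Asm3
import Groth.Agent.AdjLin.K518.Path
import Groth.Agent.Variety.K432.CurveLift

/-!
# Assembly, part 4: start, descent, and freeness
-/

set_option autoImplicit false
universe u

open CategoryTheory CategoryTheory.Limits AlgebraicGeometry TopologicalSpace
open Groth.Agent.Divis.CartierBasic (stalkIdeal)

noncomputable section

namespace K633.Fuj

open Groth.Agent.Divis.CartierBasic (stalkIdeal_bot)
open Groth.Agent.CycB

variable {k : Type u} [Field k] {X : Scheme.{u}} {p : X ⟶ Spec (CommRingCat.of k)} {n : ℕ} {L : X.Modules}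

/-- monotonicity of orders at places over `x` -/
def NMono (p : X ⟶ Spec (CommRingCat.of k)) : Prop :=
  ∀ (M : Model p) (x : X) (i : Fin M.r) (I : X.IdealSheafData) (N : ℕ), IsClosed ({x} : Set X) → M.c i = x → I ≠ ⊥ →
    stalkIdeal I x ≤ IsLocalRing.maximalIdeal (X.presheaf.stalk x) ^ N → N * M.o (ptI x) i ≤ M.o I i

/-! ### Dimensions -/

theorem exists_dim [LocallyOfFiniteType p] (w : X) : ∃ d : ℕ, topologicalKrullDim (closure {w} : Set X) = d := by
  obtain ⟨d, -, h⟩ := K432.CurveLift.exists_dim_closure p w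
  exact ⟨d, h⟩

theorem dim_lt [LocallyOfFiniteType p] {w w' : X} (h : w ⤳ w') (hne : w' ≠ w) {d d' : ℕ}
    (hd : topologicalKrullDim (closure {w} : Set X) = d) (hd' : topologicalKrullDim (closure {w'} : Set X) = d') :
    d' < d := by
  rw [K432.CurveLift.dim_closure_iff p] at hd hd'
  have h1 := RelDim.rtd_lt_of_specializes p h (Ne.symm hne) (Subsingleton.elim _ _)
  rw [hd, hd'] at h1
  exact_mod_cast h1

theorem dim_closed {x : X} (hx : IsClosed ({x} : Set X)) :
    topologicalKrullDim (closure {x} : Set X) = ((0 : ℕ) : WithBot ℕ∞) := by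
  rw [hx.closure_eq]
  have : DiscreteTopology ({x} : Set X) := Subsingleton.discreteTopology
  have : Nonempty ({x} : Set X) := ⟨⟨x, rfl⟩⟩
  refine le_antisymm (topologicalKrullDim_zero_of_discreteTopology (({x} : Set X) : Type u)) ?_
  have : Nonempty (IrreducibleCloseds ({x} : Set X)) :=
    ⟨⟨Set.univ, ⟨Set.univ_nonempty, Set.subsingleton_univ.isPreirreducible⟩, isClosed_univ⟩⟩
  exact Order.krullDim_nonneg

/-! ### States -/

theorem St.lc {M : Model p} {B : Bd L} {x w : X} (hS : St M B x w) (hx : IsClosed ({x} : Set X)) (hwx : w ≠ x) :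
    Lc M B x w :=
  ⟨hx, hS.spec, hwx, hS.monB, hS.monx, hS.monw,
    fun i hi => (hS.above M (Model.Over.id M) (Model.Over.strict_id M) i hi).1,
    fun i hi => (hS.above M (Model.Over.id M) (Model.Over.strict_id M) i hi).2, hS.ex⟩

theorem St.pos {M : Model p} {B : Bd L} {x w : X} (hS : St M B x w) (hwx : w ≠ x) {β : ℚ} (hβ : 0 ≤ β)
    (h2 : ∃ i, M.c i = x ∧ B.ld M i = β * M.o (ptI x) i) : 0 < β := by
  obtain ⟨i, hi, hi'⟩ := h2
  refine hβ.lt_of_ne fun e => hwx ?_
  rw [← e, zero_mul] at hi'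
  rw [← (hS.above M (Model.Over.id M) (Model.Over.strict_id M) i (by rw [hi])).2 hi', hi]

section

variable (hT : NTower p n)
include hT

theorem descent [NoetherianSpace X] [LocallyOfFiniteType p] (hLR : NLR p) (hGG : NGG L) (hCo : NCount L)
    (hConn : NConn p L) (hLoc : NLoc p) (hMult : NMult p n L) (hFin : NFin p n L) {ρ : ℕ → ℕ → ℚ} {Φ : ℕ → ℚ → ℚ}
    (hP : K518.Path.IsPath n ρ Φ) {x : X} (hx : IsClosed ({x} : Set X)) {ω : X.Modules} (hω : Canon.IsTopDiff p n ω)
    (l : ℕ) (d : ℕ) : ∀ (w : X) (M : Model p) (B : Bd L) (β : ℚ), St M B x w →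
      topologicalKrullDim (closure {w} : Set X) = d → d ≤ n → 0 ≤ β →
      (∀ i, M.c i = x → β * M.o (ptI x) i ≤ B.ld M i) → (∃ i, M.c i = x ∧ B.ld M i = β * M.o (ptI x) i) →
      B.price + Φ d β < l → GenAt (CohB1.tensorMod ω (CohB1.tensorPow L l)) x := by
  induction d using Nat.strong_induction_on with
  | _ d ih =>
    intro w M B β hS hd hdn hβ0 h1 h2 hpr
    have hpr0 : B.price < l := by
      have := hP.nonneg d β hβ0
      linarith
    by_cases hwx : w = x
    · subst hwx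
      refine hFin M B w hx hS.monB
        (fun i hi => (hS.above M (Model.Over.id M) (Model.Over.strict_id M) i hi).1)
        (fun i hi => (hS.above M (Model.Over.id M) (Model.Over.strict_id M) i hi).2) hS.ex ω hω l hpr0
    · have hβ := hS.pos hwx hβ0 h2
      have hd1 : 1 ≤ d := by
        have := dim_lt (p := p) hS.spec (Ne.symm hwx) hd (dim_closed hx)
        omega
      obtain ⟨hc, hlen⟩ := hMult M B x w (hS.lc hx hwx) d hd hS.coef β hβ h1
      have hc1 : 1 ≤ ⌈β⌉₊ := Nat.one_le_iff_ne_zero.2 (Nat.ceil_pos.2 hβ).ne'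
      have hrate := hP.rate d ⌈β⌉₊ hd1 hdn hc1 hc
      have hε : 0 < ((l : ℚ) - B.price - Φ d β) / 2 := by
        apply half_pos
        linarith
      obtain ⟨N, B', w', β', hS', hww', hne', hβ'0, hβ'β, h1', h2', hpr'⟩ :=
        step hT hLR hGG hCo hConn hLoc hx hwx hS hd hd1 h1 h2 hlen (hP.pos d ⌈β⌉₊) hrate _ hε
      obtain ⟨d', hd'⟩ := exists_dim (p := p) w'
      have hd'd : d' < d := dim_lt (p := p) hww' hne' hd hd'
      have hor : d' = 0 ∨ ⌈β'⌉₊ ≤ d' := by
        by_cases hw'x : w' = x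
        · left
          rw [hw'x, dim_closed hx] at hd'
          exact_mod_cast hd'.symm
        · right
          exact (hMult N B' x w' (hS'.lc hx hw'x) d' hd' hS'.coef β' (hS'.pos hw'x hβ'0 h2') h1').1
      have hst := hP.step d d' β β' hd'd hdn hβ hc hβ'0 hβ'β hor
      refine ih d' hd'd w' N B' β' hS' hd' (by omega) hβ'0 h1' h2' ?_
      linarith

set_option maxHeartbeats 1600000 in
theorem start [NoetherianSpace X] [IsIntegral X] (hLR : NLR p) (hMod : NModel p) (hGG : NGG L) (hCo : NCount L)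
    (hMult : NMult0 p n) (hMono : NMono p) (hn : 1 ≤ n) (hdim : topologicalKrullDim X = n)
    {x : X} (hx : IsClosed ({x} : Set X)) {ρ : ℚ} (hρ : 0 < ρ) (hμρ : (1 : ℚ) < ρ ^ n) (ε : ℚ) (hε : 0 < ε) :
    ∃ (N : Model p) (B' : Bd L) (w' : X) (β' : ℚ), St N B' x w' ∧ w' ≠ genericPoint X ∧ 0 ≤ β' ∧ β' ≤ n ∧
      (∀ i, N.c i = x → β' * N.o (ptI x) i ≤ B'.ld N i) ∧ (∃ i, N.c i = x ∧ B'.ld N i = β' * N.o (ptI x) i) ∧
      B'.price ≤ ρ * (n - β') + ε := by
  classical
  set g := genericPoint X with hg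
  have hgs : ∀ y : X, g ⤳ y := fun y => (genericPoint_spec X).specializes (Set.mem_univ y)
  have hcg : closure ({g} : Set X) = Set.univ := genericPoint_closure X
  have hdg : topologicalKrullDim (closure {g} : Set X) = n := by
    rw [hcg, ← hdim]
    exact (Homeomorph.Set.univ X).isHomeomorph.topologicalKrullDim_eq _
  have hgx : g ≠ x := by
    intro e
    rw [e, dim_closed hx] at hdg
    have : (0 : ℕ) = n := by exact_mod_cast hdg
    omega
  have hxb : ptI x ≠ ⊥ := ptI_x_ne_bot hx hgx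
  have hgb : ptI g = ⊥ := by
    rw [← Scheme.IdealSheafData.support_eq_top_iff]
    apply Closeds.ext
    rw [Closeds.coe_top, Set.eq_univ_iff_forall]
    intro y
    exact mem_support_ptI.2 (hgs y)
  obtain ⟨M₀⟩ := hMod
  obtain ⟨M₁, -, hM₁, -⟩ := lrl hLR M₀ [ptI x] (by
    intro I hI
    rcases List.mem_cons.1 hI with rfl | hI
    · exact hxb
    · exact absurd hI List.not_mem_nil)
  have hlen := (hMult M₁ x hx (hM₁ _ (by simp)) hn).2
  obtain ⟨jt, q, hj1, hq1, hqρ, It, ⟨iso⟩, hItg, hItx⟩ := hCo x g hx (hgs x) n hdg hn 1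
    (fun j => by rw [one_mul]; exact hlen j) ρ hρ (by rw [Nat.cast_one]; exact hμρ)
  rw [hgb, stalkIdeal_bot, bot_sup_eq] at hItx
  have hGI : GG L q It := by
    have := hGG.2.1 It q 1 ⟨iso⟩
    rwa [one_mul, pow_one] at this
  have hItb : It ≠ ⊥ := by
    rintro rfl
    rw [stalkIdeal_bot] at hItg
    exact bot_ne_top hItg
  obtain ⟨N, h, hml, hs⟩ := lrl hLR M₀ [ptI x, It] (by
    intro I hI
    rcases List.mem_cons.1 hI with rfl | hI
    · exact hxb
    · rcases List.mem_cons.1 hI with rfl | hI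
      · exact hItb
      · exact absurd hI List.not_mem_nil)
  have hmx : N.IsMon (ptI x) := hml _ (by simp)
  have hmI : N.IsMon It := hml _ (by simp)
  obtain ⟨j, hjc, hjA⟩ := (hMult N x hx hmx hn).1
  have hjA' : (N.A j : ℚ) ≤ n * N.o (ptI x) j := by exact_mod_cast hjA
  have hop : ∀ i, N.c i = x → 0 < (N.o (ptI x) i : ℚ) := fun i hi =>
    o_pos hT hxb (by rw [hi, mem_support_ptI])
  have hij := hMono N x j It jt hx hjc hItb hItx
  have hij' : (jt : ℚ) * N.o (ptI x) j ≤ N.o It j := by exact_mod_cast hij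
  let S : Finset (Fin N.r) := Finset.univ.filter fun i => N.c i ⤳ x ∧ N.o It i ≠ 0
  have hmS : ∀ i, i ∈ S ↔ N.c i ⤳ x ∧ N.o It i ≠ 0 := fun i => by simp [S]
  have hjt : (1 : ℚ) ≤ jt := by exact_mod_cast hj1
  have hobj : 0 < (N.o It j : ℚ) := lt_of_lt_of_le (mul_pos (by linarith) (hop j hjc)) hij'
  have hjS : j ∈ S := (hmS j).2 ⟨by rw [hjc], fun e => by rw [e] at hobj; simp at hobj⟩
  have hSo : ∀ i ∈ S, 0 < (N.o It i : ℚ) := fun i hi => by exact_mod_cast Nat.pos_of_ne_zero ((hmS i).1 hi).2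
  have hA0 : ∀ i, 0 < (N.A i : ℚ) := fun i => by exact_mod_cast N.one_le_A i
  obtain ⟨i₅, hi₅, hγ⟩ := Finset.exists_min_image S (fun i => (N.A i : ℚ) / (N.o It i : ℚ)) ⟨j, hjS⟩
  set γ : ℚ := (N.A i₅ : ℚ) / (N.o It i₅ : ℚ) with hγdef
  have hγpos : 0 < γ := div_pos (hA0 i₅) (hSo i₅ hi₅)
  set B₁ : Bd L := (Bd.zero L).add 0 le_rfl It q γ hItb hGI hγpos.le with hB₁
  have hld : ∀ i, B₁.ld N i = N.A i - γ * N.o It i := fun i => by
    rw [hB₁, Bd.ld_add]
    ring
  have hB₁N : B₁.IsMon N := Bd.isMon_add _ _ _ _ _ _ _ _ _ (Bd.isMon_zero N) hmI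
  have hcase : ∀ i, N.c i ⤳ x → 0 ≤ B₁.ld N i ∧ (B₁.ld N i = 0 → i ∈ S) := by
    intro i hi
    by_cases hiS : i ∈ S
    · have g1 := hγ i hiS
      rw [le_div_iff₀ (hSo i hiS)] at g1
      exact ⟨by rw [hld]; linarith, fun _ => hiS⟩
    · have g1 : N.o It i = 0 := by
        by_contra hne
        exact hiS ((hmS i).2 ⟨hi, hne⟩)
      rw [hld, g1, Nat.cast_zero, mul_zero, sub_zero]
      exact ⟨(hA0 i).le, fun e => absurd e (hA0 i).ne'⟩
  have hi₅' : B₁.ld N i₅ = 0 := by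
    rw [hld, hγdef, div_mul_cancel₀ _ (hSo i₅ hi₅).ne', sub_self]
  have hItg' : g ∉ It.support := notMem_support_of_stalkIdeal hItg
  obtain ⟨ε₂, hε₂, hε₂1, hε₂'⟩ := exists_small (Finset.univ : Finset (Fin 2)) ![1, ρ + 1] ![γ, ε] (by
      intro i _
      fin_cases i
      · exact hγpos
      · exact hε)
  have c3 : ε₂ * 1 < γ := by simpa using hε₂' ε₂ hε₂.le le_rfl 0 (Finset.mem_univ _)
  have c4 : ε₂ * (ρ + 1) < ε := by simpa using hε₂' ε₂ hε₂.le le_rfl 1 (Finset.mem_univ _)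
  obtain ⟨N', h', B', w', hS', hww', hne', hs', hpr, j', hj'c, hj'o, hj'l⟩ := tie hT hLR hGG hx g N B₁ hB₁N
    (fun i hi => (hcase i hi).1)
    (fun i hi h0 => ⟨hgs _, fun e => hItg' (e ▸ o_ne_zero hT hItb ((hmS i).1 ((hcase i hi).2 h0)).2)⟩)
    ⟨i₅, ((hmS i₅).1 hi₅).1, hi₅'⟩ j hjc ε₂ hε₂
  have hab' := hS'.above N' (Model.Over.id N') (Model.Over.strict_id N')
  obtain ⟨β', hβ'0, hβ', hβ'e⟩ := exists_threshold hT hxb N' B' (fun i hi => (hab' i (by rw [hi])).1) ⟨j', hj'c⟩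
  have ho1 : (1 : ℚ) ≤ ((N.o (ptI x) j : ℕ) : ℚ) := by
    have := hop j hjc
    exact_mod_cast Nat.one_le_iff_ne_zero.2 (fun e => by rw [e] at this; simp at this)
  set o : ℚ := ((N.o (ptI x) j : ℕ) : ℚ) with ho
  have hest : β' ≤ n + ε₂ - γ * jt := by
    have g1 := hβ' j' hj'c
    rw [hj'o] at g1
    have g2 : β' * o ≤ (n + ε₂ - γ * jt) * o := by
      rw [hld] at hj'l
      have g3 : γ * (jt * o) ≤ γ * N.o It j := mul_le_mul_of_nonneg_left hij' hγpos.le
      have g5 : ε₂ ≤ ε₂ * o := le_mul_of_one_le_right hε₂.le ho1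
      calc β' * o ≤ B'.ld N' j' := g1
        _ ≤ N.A j - γ * N.o It j + ε₂ := hj'l
        _ ≤ n * o - γ * (jt * o) + ε₂ * o := by linarith
        _ = _ := by ring
    exact le_of_mul_le_mul_right g2 (by linarith)
  have hγj : γ ≤ γ * jt := le_mul_of_one_le_right hγpos.le hjt
  refine ⟨N', B', w', β', hS', hne', hβ'0, by linarith, hβ', hβ'e, ?_⟩
  have hp1 : B₁.price = γ * q := by
    rw [hB₁, Bd.price_add, zero_mul, add_zero]
  have hp2 : γ * (q : ℚ) ≤ ρ * (γ * jt) := by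
    calc γ * (q : ℚ) ≤ γ * (ρ * jt) := mul_le_mul_of_nonneg_left hqρ hγpos.le
      _ = _ := by ring
  have hp3 : ρ * (γ * jt) ≤ ρ * (n + ε₂ - β') := mul_le_mul_of_nonneg_left (by linarith) hρ.le
  rw [hp1] at hpr
  nlinarith

/-- **Freeness** from the nodes. -/
theorem free_at [NoetherianSpace X] [LocallyOfFiniteType p] [IsIntegral X] (hLR : NLR p) (hMod : NModel p)
    (hGG : NGG L) (hCo : NCount L) (hConn : NConn p L) (hLoc : NLoc p) (hMult : NMult p n L) (hMult0 : NMult0 p n)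
    (hMono : NMono p) (hFin : NFin p n L) (hn : 1 ≤ n) (hn4 : n ≤ 4) (hdim : topologicalKrullDim X = n)
    {ω : X.Modules} (hω : Canon.IsTopDiff p n ω) (l : ℕ) (hl : n + 1 ≤ l) {x : X} (hx : IsClosed ({x} : Set X)) :
    GenAt (CohB1.tensorMod ω (CohB1.tensorPow L l)) x := by
  have hP := K518.Path.isPath n hn hn4
  set ρ := K518.Path.rat n
  set Φ := K518.Path.pot n
  have hrate := hP.rate n n hn le_rfl hn le_rfl
  rw [Nat.sub_self, Nat.choose_self, Nat.cast_one] at hrate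
  have hε : 0 < ((n : ℚ) + 1 - Φ n n) / 2 := by
    apply half_pos
    linarith [hP.start]
  obtain ⟨N, B, w, β, hS, hne, hβ0, hβn, h1, h2, hpr⟩ := start hT hLR hMod hGG hCo hMult0 hMono hn hdim hx
    (hP.pos n n) hrate _ hε
  obtain ⟨d, hd⟩ := exists_dim (p := p) w
  have hcg : closure ({genericPoint X} : Set X) = Set.univ := genericPoint_closure X
  have hdg : topologicalKrullDim (closure {genericPoint X} : Set X) = n := by
    rw [hcg, ← hdim]
    exact (Homeomorph.Set.univ X).isHomeomorph.topologicalKrullDim_eq _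
  have hdn : d < n := dim_lt (p := p) ((genericPoint_spec X).specializes (Set.mem_univ w)) hne hdg hd
  have hor : d = 0 ∨ ⌈β⌉₊ ≤ d := by
    by_cases hwx : w = x
    · left
      rw [hwx, dim_closed hx] at hd
      exact_mod_cast hd.symm
    · right
      exact (hMult N B x w (hS.lc hx hwx) d hd hS.coef β (hS.pos hwx hβ0 h2) h1).1
  have hst := hP.step n d n β hdn le_rfl (by exact_mod_cast hn) (by rw [Nat.ceil_natCast]) hβ0 hβn hor
  rw [Nat.ceil_natCast] at hst
  have hl' : (n : ℚ) + 1 ≤ l := by exact_mod_cast hl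
  refine descent hT hLR hGG hCo hConn hLoc hMult hFin hP hx hω l d w N B β hS hd hdn.le hβ0 h1 h2 ?_
  have := hP.start
  nlinarith

end

end K633.Fuj
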