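import Groth.Agent.AdjLin.K633.Plan
import Groth.Agent.AdjLin.K165.LogRes
import Groth.Agent.Variety.K431.GGTensor
import Groth.Agent.AbVar.K516.IdealMul
import Groth.Agent.ArSurf.K482.TensCalc
import Groth.Agent.ArSurf.K482.Triv
import Groth.Agent.Ega2.AmpleGlobGen
import Groth.Agent.Sga2lef.H503.ProZero
import Groth.Agent.Sga2lef.H503.EndGame

/-!
# The node `NGG`: global generation of `A^a ⊗ I`
-/

set_option autoImplicit false
universe u

open CategoryTheory CategoryTheory.Limits AlgebraicGeometry TopologicalSpace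

namespace K633.PGG

open Groth.Agent K633.Fuj
open Groth.Agent.Variety.K431.GGTensor K516.IdealMul Groth.Agent.PerfA.IdealModule

variable {X : Scheme.{u}} {L : X.Modules}

theorem gg_of_iso {M N : X.Modules} (h : Nonempty (M ≅ N)) (hM : Curv2.IsGloballyGenerated M) :
    Curv2.IsGloballyGenerated N := by
  obtain ⟨e⟩ := h
  exact of_epi e.hom hM

theorem gg_iff {a : ℕ} {I : X.IdealSheafData} :
    GG L a I ↔ Curv2.IsGloballyGenerated ((DCoh.tensorRightMod (CohB1.tensorPow L a)).obj (ClSub.idealMod I)) :=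
  ⟨fun h => gg_of_iso (K482.TensCalc.comm _ _) h, fun h => gg_of_iso (K482.TensCalc.comm _ _) h⟩

theorem gg_top : GG L 0 (⊤ : X.IdealSheafData) := by
  refine gg_iff.2 (gg_of_iso ?_ structureModule)
  obtain ⟨e⟩ := K482.Triv.idealMod_top (X := X)
  exact ⟨e.symm ≪≫ (Ega2.Tens.runit _).symm⟩

theorem epi_map {M N : X.Modules} (T : X.Modules) (f : M ⟶ N) [Epi f] : Epi ((DCoh.tensorRightMod T).map f) := by
  have h1 := PerfB.TensExact.preservesFiniteColimits_tensorRightMod T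
  have h0 := PerfB.TensExact.preservesColimits_tensorRightMod T
  have h2 : (DCoh.tensorRightMod T).PreservesEpimorphisms :=
    CategoryTheory.preservesEpimorphisms_of_preservesColimitsOfShape _
  exact (DCoh.tensorRightMod T).map_epi f

theorem gg_mul {a b : ℕ} {I J : X.IdealSheafData} (hI : GG L a I) (hJ : GG L b J) : GG L (a + b) (I * J) := by
  have h := tensor (gg_iff.1 hI) (gg_iff.1 hJ)
  have h1 : Nonempty (CohB1.tensorMod (CohB1.tensorMod (ClSub.idealMod I) (CohB1.tensorPow L a))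
      (CohB1.tensorMod (ClSub.idealMod J) (CohB1.tensorPow L b)) ≅
      CohB1.tensorMod (CohB1.tensorMod (ClSub.idealMod I) (ClSub.idealMod J)) (CohB1.tensorPow L (a + b))) := by
    refine K482.TensCalc.trans (K482.TensCalc.symm (K482.TensCalc.assoc _ _ _)) ?_
    refine K482.TensCalc.trans (K482.TensCalc.congr (K482.TensCalc.right_comm _ _ _) (K482.TensCalc.refl _)) ?_
    exact K482.TensCalc.trans (K482.TensCalc.assoc _ _ _)
      (K482.TensCalc.congr (K482.TensCalc.refl _) ⟨Ega2.TensPow.powAdd L a b⟩)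
  have h2 := gg_of_iso h1 h
  have := epi_map (CohB1.tensorPow L (a + b)) (K516.IdealMul.mulI I J)
  exact gg_iff.2 (of_epi ((DCoh.tensorRightMod (CohB1.tensorPow L (a + b))).map (K516.IdealMul.mulI I J)) h2)

theorem gg_pow {q : ℕ} {I : X.IdealSheafData} (h : GG L q I) (r : ℕ) : GG L (r * q) (I ^ r) := by
  induction r with
  | zero => rw [zero_mul, pow_zero]; exact gg_top
  | succ r ih => rw [Nat.succ_mul, pow_succ]; exact gg_mul ih h

theorem val_incl {I J : X.IdealSheafData} (h : I ≤ J) {U : X.Opens} (s : Γ(ClSub.idealMod I, U)) :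
    val J ((Sga2lef.H503.ProZero.incl h).app U s) = val I s := by
  have h1 := congr(($(Sga2lef.H503.ProZero.incl_ι h)).app U s)
  exact h1

/-- the inclusions of `I` and `J` into `I ⊔ J` are jointly epimorphic -/
theorem epi_desc (I J : X.IdealSheafData) :
    Epi (coprod.desc (Sga2lef.H503.ProZero.incl (le_sup_left : I ≤ I ⊔ J))
      (Sga2lef.H503.ProZero.incl (le_sup_right : J ≤ I ⊔ J))) := by
  refine FormalB.SysSect.epi_of_affine _ fun U hU => ?_
  intro s
  have h1 : val (I ⊔ J) s ∈ (I ⊔ J).ideal ⟨U, hU⟩ := val_mem (I ⊔ J) ⟨U, hU⟩ s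
  have h2 : (I ⊔ J).ideal ⟨U, hU⟩ = I.ideal ⟨U, hU⟩ ⊔ J.ideal ⟨U, hU⟩ := by
    simp
  rw [h2] at h1
  obtain ⟨i, hi, j, hj, hij⟩ := Submodule.mem_sup.1 h1
  obtain ⟨i', hi'⟩ := exists_val_eq I ⟨U, hU⟩ hi
  obtain ⟨j', hj'⟩ := exists_val_eq J ⟨U, hU⟩ hj
  refine ⟨(coprod.inl : ClSub.idealMod I ⟶ ClSub.idealMod I ⨿ ClSub.idealMod J).app U i' +
    (coprod.inr : ClSub.idealMod J ⟶ ClSub.idealMod I ⨿ ClSub.idealMod J).app U j', ?_⟩
  apply val_injective (I ⊔ J) U
  rw [map_add, val_add]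
  have e1 : (coprod.desc (Sga2lef.H503.ProZero.incl (le_sup_left : I ≤ I ⊔ J))
      (Sga2lef.H503.ProZero.incl (le_sup_right : J ≤ I ⊔ J))).app U
      ((coprod.inl : ClSub.idealMod I ⟶ ClSub.idealMod I ⨿ ClSub.idealMod J).app U i') =
      (Sga2lef.H503.ProZero.incl (le_sup_left : I ≤ I ⊔ J)).app U i' := by
    conv_rhs => rw [← coprod.inl_desc (Sga2lef.H503.ProZero.incl (le_sup_left : I ≤ I ⊔ J))
      (Sga2lef.H503.ProZero.incl (le_sup_right : J ≤ I ⊔ J))]
    rfl
  have e2 : (coprod.desc (Sga2lef.H503.ProZero.incl (le_sup_left : I ≤ I ⊔ J))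
      (Sga2lef.H503.ProZero.incl (le_sup_right : J ≤ I ⊔ J))).app U
      ((coprod.inr : ClSub.idealMod J ⟶ ClSub.idealMod I ⨿ ClSub.idealMod J).app U j') =
      (Sga2lef.H503.ProZero.incl (le_sup_right : J ≤ I ⊔ J)).app U j' := by
    conv_rhs => rw [← coprod.inr_desc (Sga2lef.H503.ProZero.incl (le_sup_left : I ≤ I ⊔ J))
      (Sga2lef.H503.ProZero.incl (le_sup_right : J ≤ I ⊔ J))]
    rfl
  rw [e1, e2, val_incl, val_incl, hi', hj', hij]

theorem gg_sup {a : ℕ} {I J : X.IdealSheafData} (hI : GG L a I) (hJ : GG L a J) : GG L a (I ⊔ J) := by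
  rw [gg_iff] at hI hJ ⊢
  set T := CohB1.tensorPow L a
  have h1 := PerfB.TensExact.preservesFiniteColimits_tensorRightMod T
  have h0 := PerfB.TensExact.preservesColimits_tensorRightMod T
  have h2 := epi_desc I J
  have h3 := epi_map T (coprod.desc (Sga2lef.H503.ProZero.incl (le_sup_left : I ≤ I ⊔ J))
      (Sga2lef.H503.ProZero.incl (le_sup_right : J ≤ I ⊔ J)))
  rw [iff_cancel]
  intro Z f hf
  rw [← cancel_epi ((DCoh.tensorRightMod T).map (coprod.desc (Sga2lef.H503.ProZero.incl (le_sup_left : I ≤ I ⊔ J))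
      (Sga2lef.H503.ProZero.incl (le_sup_right : J ≤ I ⊔ J)))), comp_zero]
  have k1 : (DCoh.tensorRightMod T).map (coprod.inl : ClSub.idealMod I ⟶ ClSub.idealMod I ⨿ ClSub.idealMod J) ≫
      (DCoh.tensorRightMod T).map (coprod.desc (Sga2lef.H503.ProZero.incl (le_sup_left : I ≤ I ⊔ J))
      (Sga2lef.H503.ProZero.incl (le_sup_right : J ≤ I ⊔ J))) ≫ f = 0 := by
    rw [← Category.assoc, ← Functor.map_comp, coprod.inl_desc]
    refine (iff_cancel _).1 hI Z _ fun s => ?_
    rw [← Category.assoc]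
    exact hf _
  have k2 : (DCoh.tensorRightMod T).map (coprod.inr : ClSub.idealMod J ⟶ ClSub.idealMod I ⨿ ClSub.idealMod J) ≫
      (DCoh.tensorRightMod T).map (coprod.desc (Sga2lef.H503.ProZero.incl (le_sup_left : I ≤ I ⊔ J))
      (Sga2lef.H503.ProZero.incl (le_sup_right : J ≤ I ⊔ J))) ≫ f = 0 := by
    rw [← Category.assoc, ← Functor.map_comp, coprod.inr_desc]
    refine (iff_cancel _).1 hJ Z _ fun s => ?_
    rw [← Category.assoc]
    exact hf _
  refine (isColimitOfPreserves (DCoh.tensorRightMod T)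
    (coprodIsCoprod (ClSub.idealMod I) (ClSub.idealMod J))).hom_ext ?_
  rintro ⟨⟨⟩⟩
  · exact k1.trans comp_zero.symm
  · exact k2.trans comp_zero.symm

theorem nGG [IsNoetherian X] (hL : CohB1.IsAmple L) : NGG L := by
  refine ⟨fun I => ?_, fun I q r h => ?_, fun I I' a h h' => gg_sup h h'⟩
  · obtain ⟨n₀, h⟩ := Ega2.AmpleGlobGen.exists_globGen hL (Sga2lef.H503.EndGame.isCoh_idealMod I)
    exact ⟨n₀, fun a ha => gg_iff.2 (h a ha)⟩
  · exact gg_pow (gg_of_iso (h.map Iso.symm) structureModule) r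

end K633.PGG
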