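import Groth.Agent.AdjLin.K633.Asm4
import Groth.Agent.AdjLin.K633.PGG
import Groth.Agent.AdjLin.K699.PMono
import Groth.Agent.AdjLin.K699.KVFin
import Groth.Agent.AdjLin.K699.Conn
import Groth.Agent.AdjLin.K699.PVan
import Groth.Agent.AdjLin.K134.PTower2
import Groth.Agent.AdjLin.K134.PJac
import Groth.Agent.AdjLin.K165.Tower
import Groth.Agent.AdjLin.K680.PMv
import Groth.Agent.AdjLin.K268.Mult
import Groth.Agent.AdjLin.K268.Mult0
import Groth.Agent.AdjLin.K369.Loc
import Groth.Agent.AdjLin.K800.Fin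
import Groth.Agent.AdjLin.K518.PCount
import Groth.Agent.VarietyA.Dim1GlobGen
import Groth.Agent.AdjLin.K800.Free4
import Groth.Agent.Resolve.K588.WThm
import Groth.Agent.Resolve.K284.NodeB

/-!
# Freeness of adjoint bundles in dimension at most four
-/

set_option autoImplicit false
universe u

open CategoryTheory CategoryTheory.Limits AlgebraicGeometry TopologicalSpace

namespace K633.Fuj

section

variable {k : Type u} [Field k] [IsAlgClosed k] [CharZero k]

theorem free_at' {X : Scheme.{u}} {p : X ⟶ Spec (CommRingCat.of k)} {n : ℕ} {L : X.Modules} (C : Ctx p n L)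
    [IsIntegral X] (hn : 1 ≤ n) (hn4 : n ≤ 4)
    {ω : X.Modules} (hω : Canon.IsTopDiff p n ω) (l : ℕ) (hl : n + 1 ≤ l) {x : X} (hx : IsClosed ({x} : Set X)) :
    GenAt (CohB1.tensorMod ω (CohB1.tensorPow L l)) x := by
  have hp : IsProper p := (K134.PJac.inst C).2.2.2.1
  have hN : IsNoetherian X := K165.LogRes.isNoetherian_of_proper p
  have hJac : NJac p n := K134.PJac.nJac C
  have hKV := K699.KVFin.kvss k
  have hVL : NVanL p n L := K699.PVan.nVanL hKV C
  have hVG : NVanG p n L := K699.PVan.nVanG hKV C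
  have hMult0 : NMult0 p n := K268.Mult0.nMult0 C hJac hVL
  have hT : NTower p n := K134.PTower2.nTower C fun M x hx hn hM => by
    obtain ⟨i, hi, -⟩ := (hMult0 M x hx hM hn).1
    exact ⟨i, hi⟩
  exact free_at hT (K165.Tower.nLR (K588.WThm.wThm k (K284.NodeB.nodeB k) n) C) (K165.Tower.nModel C) (PGG.nGG C.ample) (K518.PCount.nCount C)
    (K699.Conn.nConn C hJac (K680.PMv.nMV C) hVL) K369.Loc.nloc (K268.Mult.nMult C hJac hVL) hMult0
    (K699.PMono.nMono C) (K800.Fin.nFin C hVG) hn hn4 C.dim hω l hl hx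

omit [IsAlgClosed k] [CharZero k] in
theorem gg_of_genAt {X : Scheme.{u}} [CompactSpace X] {F : X.Modules}
    (h : ∀ x : X, IsClosed ({x} : Set X) → GenAt F x) : Curv2.IsGloballyGenerated F := by
  refine Groth.Agent.VarietyA.Dim1GlobGen.isGloballyGenerated (ι := Coh.structureModule X ⟶ F) id fun x => ?_
  obtain ⟨y, hy, hy'⟩ := isClosed_closure.exists_closed_singleton (closure_nonempty_iff.2 (Set.singleton_nonempty x))
  obtain ⟨s, hs⟩ := h y hy'
  exact ⟨s, (specializes_iff_mem_closure.2 hy).mem_open (CohB1.genLocus F s).isOpen hs⟩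

theorem free {X : Scheme.{u}} [X.Over (Spec (CommRingCat.of k))] [IsIntegral X]
    [IsProper (X ↘ Spec (CommRingCat.of k))] (n : ℕ) [SmoothOfRelativeDimension n (X ↘ Spec (CommRingCat.of k))]
    (hn : 1 ≤ n) (hn4 : n ≤ 4)
    (K : X.Modules) (hK : Canon.IsTopDiff (X ↘ Spec (CommRingCat.of k)) n K) : K800.Free4.Free n K := by
  intro A hA l hl
  have C : Ctx (X ↘ Spec (CommRingCat.of k)) n A := ⟨inferInstance, inferInstance,
    K165.LogRes.isHProjective_of_ample ⟨A, hA⟩, K800.Setup.topologicalKrullDim_eq k (X ↘ Spec (CommRingCat.of k)) n, hA⟩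
  have hN : IsNoetherian X := K165.LogRes.isNoetherian_of_proper (X ↘ Spec (CommRingCat.of k))
  exact gg_of_genAt fun x hx => free_at' C hn hn4 hK l hl hx

end

end K633.Fuj
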